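import Cfsg.Agent.SFT.FPF
import Cfsg.Agent.Signalizer.Basic
import Cfsg.Agent.FGSA.InvariantHall

/-!
An elementary abelian group of order `q²` acting coprimely with abelian centralizers: the setting,
invariant Sylow subgroups, and quotients.
-/

set_option autoImplicit false
set_option linter.unusedSectionVars false
set_option linter.style.haveILetI false
set_option linter.deprecated false

namespace CfsgLib.AbFix

open Subgroup Pointwise CfsgLib.SZ CfsgLib.SFT
open scoped commutatorElement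

universe u

variable {X : Type u} [Group X] [Finite X]

/-- The setting: `A` of type `(q, q)` acts on the `q'`-group `G` with abelian centralizers. -/
structure Hyp (q : ℕ) (A G : Subgroup X) : Prop where
  prime : q.Prime
  elem : Cfsg.IsElementaryAbelian q A
  card : Nat.card A = q ^ 2
  norm : A ≤ normalizer (G : Set X)
  cop : ¬ q ∣ Nat.card G
  comm : ∀ a ∈ A, a ≠ 1 → ∀ x ∈ G ⊓ centralizer {a}, ∀ y ∈ G ⊓ centralizer {a}, x * y = y * x

/-- No nontrivial element of `G` is fixed by all of `A`. -/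
def Free (A G : Subgroup X) : Prop := G ⊓ centralizer (A : Set X) = ⊥

/-- `a` and `c` are nontrivial elements of `A` generating it. -/
def Ind (A : Subgroup X) (a c : X) : Prop := a ∈ A ∧ a ≠ 1 ∧ c ∈ A ∧ c ≠ 1 ∧ c ∉ zpowers a

/-- The largest invariant `p`-subgroup of `H`. -/
def syl (p : ℕ) (A H : Subgroup X) : Subgroup X :=
  sSup {U | U ≤ H ∧ IsPGroup p U ∧ A ≤ normalizer (U : Set X)}

theorem inv_inf {A H K : Subgroup X} (h : A ≤ normalizer (H : Set X))
    (k : A ≤ normalizer (K : Set X)) : A ≤ normalizer ((H ⊓ K : Subgroup X) : Set X) :=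
  le_normalizer_inf h k

theorem inv_centralizer {A H : Subgroup X} (h : A ≤ normalizer (H : Set X)) :
    A ≤ normalizer (centralizer (H : Set X) : Set X) :=
  h.trans (normalizer_le_normalizer_centralizer H)

variable {q : ℕ} {A G : Subgroup X}

theorem Free.eq_one (hf : Free A G) {x : X} (hx : x ∈ G) (hc : x ∈ centralizer (A : Set X)) :
    x = 1 := (eq_bot_iff_forall _).1 hf x ⟨hx, hc⟩

theorem Free.mono (hf : Free A G) {H : Subgroup X} (hH : H ≤ G) : Free A H :=
  eq_bot_iff.2 ((inf_le_inf_right _ hH).trans hf.le)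

namespace Hyp

variable (h : Hyp q A G)
include h

theorem mono {H : Subgroup X} (hH : H ≤ G) (hA : A ≤ normalizer (H : Set X)) : Hyp q A H :=
  ⟨h.prime, h.elem, h.card, hA, fun hd => h.cop (hd.trans (card_dvd_of_le hH)),
    fun a ha ha1 x hx y hy => h.comm a ha ha1 x ⟨hH hx.1, hx.2⟩ y ⟨hH hy.1, hy.2⟩⟩

theorem isSolvable_A : Group.IsSolvable A := by
  haveI := Fact.mk h.prime
  exact CfsgLib.Signalizer.isSolvable h.elem

theorem coprime_le {B K : Subgroup X} (hB : B ≤ A) (hK : K ≤ G) :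
    (Nat.card B).Coprime (Nat.card K) := by
  haveI := Fact.mk h.prime
  exact CfsgLib.Signalizer.coprime_card_of_le h.elem hB fun hd => h.cop (hd.trans (card_dvd_of_le hK))

theorem commA {a b : X} (ha : a ∈ A) (hb : b ∈ A) : a * b = b * a :=
  congrArg Subtype.val (h.elem.1.1.comm ⟨a, ha⟩ ⟨b, hb⟩)

theorem A_le_centralizer {a : X} (ha : a ∈ A) : A ≤ centralizer {a} := fun _ hb =>
  mem_centralizer_singleton_iff.2 (h.commA hb ha)

theorem inv_centralizer_singleton {a : X} (ha : a ∈ A) :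
    A ≤ normalizer (centralizer {a} : Set X) :=
  (h.A_le_centralizer ha).trans le_normalizer

theorem inv_cx {H : Subgroup X} (hH : A ≤ normalizer (H : Set X)) {a : X} (ha : a ∈ A) :
    A ≤ normalizer ((H ⊓ centralizer {a} : Subgroup X) : Set X) :=
  inv_inf hH (h.inv_centralizer_singleton ha)

theorem zpowers_eq {a c : X} (ha : a ∈ A) (ha1 : a ≠ 1) (hc1 : c ≠ 1) (hca : c ∈ zpowers a) :
    zpowers c = zpowers a := by
  haveI := Fact.mk h.prime
  have hc : c ∈ A := zpowers_le.2 ha hca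
  refine CfsgLib.Solvable.eq_of_le_of_card_le (zpowers_le.2 hca) ?_
  rw [CfsgLib.Signalizer.card_zpowers_eq h.elem ha ha1,
    CfsgLib.Signalizer.card_zpowers_eq h.elem hc hc1]

theorem ind_symm {a c : X} (hi : Ind A a c) : Ind A c a := by
  obtain ⟨ha, ha1, hc, hc1, hn⟩ := hi
  refine ⟨hc, hc1, ha, ha1, fun hm => hn ?_⟩
  rw [h.zpowers_eq hc hc1 ha1 hm]
  exact mem_zpowers c

theorem centralizer_eq_of_dep {a c : X} (ha : a ∈ A) (ha1 : a ≠ 1) (hc : c ∈ A) (hc1 : c ≠ 1)
    (hn : ¬ Ind A a c) : centralizer ({c} : Set X) = centralizer {a} := by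
  have hca : c ∈ zpowers a := by
    by_contra hh
    exact hn ⟨ha, ha1, hc, hc1, hh⟩
  have he := h.zpowers_eq ha ha1 hc1 hca
  rw [← centralizer_closure, ← zpowers_eq_closure, he, zpowers_eq_closure, centralizer_closure]

theorem exists_ind {a : X} (ha : a ∈ A) (ha1 : a ≠ 1) : ∃ c, Ind A a c := by
  by_contra hc
  have hle : A ≤ zpowers a := by
    intro c hcA
    by_contra hn
    exact hc ⟨c, ha, ha1, hcA, fun e => hn (e ▸ one_mem _), hn⟩
  haveI := Fact.mk h.prime
  have h1 := Subgroup.card_le_of_le hle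
  rw [h.card, CfsgLib.Signalizer.card_zpowers_eq h.elem ha ha1, sq] at h1
  have := h.prime.two_le
  nlinarith

theorem exists_ne_one : ∃ a ∈ A, a ≠ 1 := by
  by_contra hc
  push Not at hc
  have : A = ⊥ := (eq_bot_iff_forall _).2 hc
  have h1 := h.card
  rw [this, Subgroup.card_bot] at h1
  have := h.prime.two_le
  nlinarith

theorem A_le_of_ind {a c : X} (hi : Ind A a c) {Y : Subgroup X} (ha : a ∈ Y) (hc : c ∈ Y) :
    A ≤ Y := by
  haveI := Fact.mk h.prime
  have hle : zpowers c ⊔ zpowers a ≤ A := sup_le (zpowers_le.2 hi.2.2.1) (zpowers_le.2 hi.1)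
  have he : zpowers c ⊔ zpowers a = A := by
    refine CfsgLib.Solvable.eq_of_le_of_card_le hle ?_
    rw [CfsgLib.Signalizer.card_sup_zpowers h.elem (zpowers_le.2 hi.1) hi.2.2.1 hi.2.2.2.2,
      CfsgLib.Signalizer.card_zpowers_eq h.elem hi.1 hi.2.1, h.card, sq]
  rw [← he]
  exact sup_le (zpowers_le.2 hc) (zpowers_le.2 ha)

/-- Two independent elements of `A` have no common fixed point. -/
theorem eq_one_of_ind (hf : Free A G) {a c : X} (hi : Ind A a c) {x : X} (hx : x ∈ G)
    (hxa : x ∈ centralizer {a}) (hxc : x ∈ centralizer {c}) : x = 1 := by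
  refine hf.eq_one hx ?_
  have h1 : A ≤ centralizer ({x} : Set X) := h.A_le_of_ind hi
    (mem_centralizer_singleton_iff.2 (mem_centralizer_singleton_iff.1 hxa).symm)
    (mem_centralizer_singleton_iff.2 (mem_centralizer_singleton_iff.1 hxc).symm)
  exact mem_centralizer_iff.2 fun b hb => mem_centralizer_singleton_iff.1 (h1 hb)

theorem gen {H Y : Subgroup X} (hH : H ≤ G) (hAH : A ≤ normalizer (H : Set X))
    (hY : ∀ a ∈ A, a ≠ 1 → H ⊓ centralizer {a} ≤ Y) : H ≤ Y := by
  haveI := Fact.mk h.prime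
  exact CfsgLib.Signalizer.le_of_forall_centralizer h.elem le_rfl h.card.ge hAH
    (fun hd => h.cop (hd.trans (card_dvd_of_le hH))) hY

/-- Coprime lifting of fixed points. -/
theorem lift_fixed {N : Subgroup X} (hNG : N ≤ G) (hAN : A ≤ normalizer (N : Set X))
    {B : Subgroup X} (hB : B ≤ A) {k : X} (hk : k ∈ G)
    (hfix : ∀ b ∈ B, k⁻¹ * (b * k * b⁻¹) ∈ N) :
    ∃ c ∈ G ⊓ centralizer (B : Set X), k⁻¹ * c ∈ N := by
  haveI := h.isSolvable_A
  have hs : Group.IsSolvable B := isSolvable_of_le hB h.isSolvable_A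
  obtain ⟨c, hc, hcN⟩ := CfsgLib.CoprimeAct.exists_centralizing_mem_coset (hB.trans h.norm)
    (h.coprime_le hB le_rfl) hNG (hB.trans hAN) (Or.inl hs) hk hfix
  exact ⟨c, hc, hcN⟩

/-! ### Invariant Sylow subgroups -/

theorem exists_syl (hf : Free A G) (p : ℕ) [Fact p.Prime] {H : Subgroup X} (hH : H ≤ G)
    (hAH : A ≤ normalizer (H : Set X)) :
    ∃ R : Sylow p H, syl p A H = (R : Subgroup H).map H.subtype ∧
      A ≤ normalizer (syl p A H : Set X) := by
  have hcop := h.coprime_le le_rfl hH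
  have hs : Group.IsSolvable A ∨ Group.IsSolvable H := Or.inl h.isSolvable_A
  obtain ⟨R, hR⟩ := CfsgLib.CoprimeAct.exists_invariant_sylow hAH hcop hs p
  have he : syl p A H = (R : Subgroup H).map H.subtype := by
    refine le_antisymm (sSup_le fun U hU => ?_)
      (le_sSup ⟨map_subtype_le _, R.2.map _, hR⟩)
    obtain ⟨hUH, hUp, hUA⟩ := hU
    obtain ⟨S, hUS, hS⟩ :=
      CfsgLib.CoprimeAct.exists_invariant_sylow_ge hAH hcop hs p hUH hUp hUA
    obtain ⟨c, hc, hcS⟩ := CfsgLib.CoprimeAct.invariant_sylow_conj hAH hcop hs p S R hS hR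
    have hc1 : c = 1 := Subtype.ext (hf.eq_one (hH c.2) hc)
    rw [hc1, map_one, one_smul] at hcS
    rw [← hcS]
    exact hUS
  exact ⟨R, he, he ▸ hR⟩

theorem isPGroup_syl (hf : Free A G) (p : ℕ) [Fact p.Prime] {H : Subgroup X} (hH : H ≤ G)
    (hAH : A ≤ normalizer (H : Set X)) : IsPGroup p (syl p A H) := by
  obtain ⟨R, hR, -⟩ := h.exists_syl hf p hH hAH
  rw [hR]
  exact R.2.map _

theorem inv_syl (hf : Free A G) (p : ℕ) [Fact p.Prime] {H : Subgroup X} (hH : H ≤ G)
    (hAH : A ≤ normalizer (H : Set X)) : A ≤ normalizer (syl p A H : Set X) :=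
  (h.exists_syl hf p hH hAH).choose_spec.2

theorem card_syl (hf : Free A G) (p : ℕ) [Fact p.Prime] {H : Subgroup X} (hH : H ≤ G)
    (hAH : A ≤ normalizer (H : Set X)) :
    Nat.card (syl p A H) = p ^ (Nat.card H).factorization p := by
  obtain ⟨R, hR, -⟩ := h.exists_syl hf p hH hAH
  rw [hR, card_map_of_injective H.subtype_injective, R.card_eq_multiplicity]

theorem syl_ne_bot (hf : Free A G) {p : ℕ} [Fact p.Prime] {H : Subgroup X} (hH : H ≤ G)
    (hAH : A ≤ normalizer (H : Set X)) (hd : p ∣ Nat.card H) : syl p A H ≠ ⊥ := by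
  intro e
  have h1 := h.card_syl hf p hH hAH
  rw [e, Subgroup.card_bot] at h1
  have h2 := (Fact.out : p.Prime).factorization_pos_of_dvd Nat.card_pos.ne' hd
  have := (Nat.one_lt_pow h2.ne' (Fact.out : p.Prime).one_lt)
  omega

theorem le_of_forall_syl (hf : Free A G) {H Y : Subgroup X} (hH : H ≤ G)
    (hAH : A ≤ normalizer (H : Set X))
    (hY : ∀ r, r.Prime → r ∣ Nat.card H → syl r A H ≤ Y) : H ≤ Y := by
  refine le_trans (CfsgLib.Solvable.eq_of_le_of_card_le (inf_le_left : H ⊓ Y ≤ H) ?_).ge inf_le_right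
  refine Nat.le_of_dvd Nat.card_pos
    ((Nat.factorization_le_iff_dvd Nat.card_pos.ne' Nat.card_pos.ne').1 fun r => ?_)
  by_cases hr : r.Prime ∧ r ∣ Nat.card H
  · haveI := Fact.mk hr.1
    have h1 : syl r A H ≤ H ⊓ Y := le_inf (sSup_le fun U hU => hU.1) (hY r hr.1 hr.2)
    have h2 := card_dvd_of_le h1
    rw [h.card_syl hf r hH hAH] at h2
    exact (hr.1.pow_dvd_iff_le_factorization Nat.card_pos.ne').1 h2
  · have : (Nat.card H).factorization r = 0 := by
      by_cases hp : r.Prime
      · exact Nat.factorization_eq_zero_of_not_dvd fun hd => hr ⟨hp, hd⟩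
      · exact Nat.factorization_eq_zero_of_not_prime _ hp
    rw [this]
    exact Nat.zero_le _

end Hyp

theorem syl_le (p : ℕ) (A H : Subgroup X) : syl p A H ≤ H := sSup_le fun _ hU => hU.1

theorem le_syl {p : ℕ} {A H U : Subgroup X} (hUH : U ≤ H) (hU : IsPGroup p U)
    (hUA : A ≤ normalizer (U : Set X)) : U ≤ syl p A H := le_sSup ⟨hUH, hU, hUA⟩

/-! ### Quotients -/

section Quot

variable (h : Hyp q A G) {N : Subgroup X} (hNG : N ≤ G) (hAN : A ≤ normalizer (N : Set X))
  (hGN : G ≤ normalizer (N : Set X))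

/-- The projection from the normalizer of `N`. -/
abbrev proj (N : Subgroup X) : normalizer (N : Set X) →*
    normalizer (N : Set X) ⧸ N.subgroupOf (normalizer (N : Set X)) :=
  QuotientGroup.mk' _

theorem proj_eq_one (N : Subgroup X) (y : normalizer (N : Set X)) :
    proj N y = 1 ↔ (y : X) ∈ N := by
  rw [QuotientGroup.mk'_apply, QuotientGroup.eq_one_iff, mem_subgroupOf]

/-- The image of a subgroup in the quotient of the normalizer of `N`. -/
abbrev im (N H : Subgroup X) :
    Subgroup (normalizer (N : Set X) ⧸ N.subgroupOf (normalizer (N : Set X))) :=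
  (H.subgroupOf (normalizer (N : Set X))).map (proj N)

include h hNG hAN hGN

theorem card_im_A : Nat.card (im N A) = Nat.card A := by
  set f := (proj N).comp (A.subgroupOf (normalizer (N : Set X))).subtype
  have hi : Function.Injective f := by
    rw [injective_iff_map_eq_one]
    intro y hy
    refine Subtype.ext (Subtype.ext ?_)
    exact (eq_bot_iff_forall _).1 (inf_eq_bot_of_coprime (h.coprime_le le_rfl hNG)) _
      ⟨y.2, (proj_eq_one N _).1 hy⟩
  have h1 : Nat.card (im N A) = Nat.card (A.subgroupOf (normalizer (N : Set X))) := by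
    rw [show im N A = f.range by rw [MonoidHom.range_comp, Subgroup.range_subtype]]
    exact (Nat.card_congr (MonoidHom.ofInjective hi).toEquiv).symm
  rw [h1, Nat.card_congr (subgroupOfEquivOfLe hAN).toEquiv]

theorem lift_im {B : Subgroup X} (hB : B ≤ A) {x : normalizer (N : Set X)} (hx : (x : X) ∈ G)
    (hfix : ∀ b : normalizer (N : Set X), (b : X) ∈ B →
      proj N b * proj N x = proj N x * proj N b) :
    ∃ c : normalizer (N : Set X), (c : X) ∈ G ⊓ centralizer (B : Set X) ∧ proj N c = proj N x := by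
  obtain ⟨c, hc, hcx⟩ := h.lift_fixed hNG hAN hB hx fun b hb => by
    have h1 : proj N (x⁻¹ * (⟨b, hAN (hB hb)⟩ * x * (⟨b, hAN (hB hb)⟩)⁻¹)) = 1 := by
      simp only [map_mul, map_inv]
      rw [hfix ⟨b, hAN (hB hb)⟩ hb]
      group
    simpa using (proj_eq_one N _).1 h1
  refine ⟨⟨c, hGN hc.1⟩, hc, ?_⟩
  exact (QuotientGroup.eq.2 (mem_subgroupOf.2 (by simpa using hcx))).symm

theorem hyp_im : Hyp q (im N A) (im N G) := by
  haveI := Fact.mk h.prime
  refine ⟨h.prime, ⟨⟨⟨?_⟩⟩, ?_⟩, (card_im_A h hNG hAN hGN).trans h.card, ?_, ?_, ?_⟩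
  · rintro ⟨_, x, hx, rfl⟩ ⟨_, y, hy, rfl⟩
    refine Subtype.ext (show proj N x * proj N y = proj N y * proj N x from ?_)
    rw [← map_mul, ← map_mul]
    exact congrArg _ (Subtype.ext (h.commA hx hy))
  · rintro _ ⟨x, hx, rfl⟩
    rw [← map_pow, show x ^ q = 1 from Subtype.ext (by simpa using h.elem.2 x hx), map_one]
  · refine le_normalizer_of_conj ?_
    rintro _ ⟨a, ha, rfl⟩ _ ⟨x, hx, rfl⟩
    exact ⟨a * x * a⁻¹, conj_mem h.norm ha hx, by simp only [map_mul, map_inv]⟩
  · intro hd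
    exact h.cop (hd.trans ((card_map_dvd _ _).trans
      (by rw [Nat.card_congr (subgroupOfEquivOfLe hGN).toEquiv])))
  · rintro _ ⟨a, ha, rfl⟩ ha1 _ ⟨⟨x, hx, rfl⟩, hxa⟩ _ ⟨⟨y, hy, rfl⟩, hya⟩
    have ha' : (a : X) ≠ 1 := fun e => ha1 (by rw [show a = 1 from Subtype.ext e, map_one])
    have key : ∀ z : normalizer (N : Set X), (z : X) ∈ G →
        proj N z ∈ centralizer ({proj N a} : Set _) →
        ∃ c : normalizer (N : Set X), (c : X) ∈ G ⊓ centralizer {(a : X)} ∧
          proj N c = proj N z := by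
      intro z hz hza
      have hza' : Commute (proj N z) (proj N a) := mem_centralizer_singleton_iff.1 hza
      obtain ⟨c, hc, hcz⟩ := lift_im h hNG hAN hGN (B := zpowers (a : X)) (zpowers_le.2 ha) hz
        fun b hb => by
          obtain ⟨i, hi⟩ := mem_zpowers_iff.1 hb
          rw [show b = a ^ i from Subtype.ext (by rw [SubgroupClass.coe_zpow, hi]), map_zpow]
          exact (hza'.zpow_right i).eq.symm
      exact ⟨c, ⟨hc.1, mem_centralizer_singleton_iff.2
        (mem_centralizer_iff.1 hc.2 _ (mem_zpowers _)).symm⟩, hcz⟩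
    obtain ⟨c, hc, hcx⟩ := key x hx hxa
    obtain ⟨d, hd, hdy⟩ := key y hy hya
    rw [← hcx, ← hdy, ← map_mul, ← map_mul]
    exact congrArg _ (Subtype.ext (h.comm a ha ha' c hc d hd))

theorem free_im (hf : Free A G) : Free (im N A) (im N G) := by
  refine (eq_bot_iff_forall _).2 ?_
  rintro _ ⟨⟨x, hx, rfl⟩, hxA⟩
  obtain ⟨c, hc, hcx⟩ := lift_im h hNG hAN hGN (B := A) le_rfl hx fun b hb =>
    mem_centralizer_iff.1 hxA _ ⟨b, hb, rfl⟩
  rw [← hcx, show c = 1 from Subtype.ext (hf.eq_one hc.1 hc.2), map_one]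

theorem card_im_lt (hN : N ≠ ⊥) : Nat.card (im N G) < Nat.card G := by
  have h1 : Nat.card (im N G) * Nat.card N = Nat.card G := by
    set f := (proj N).comp (G.subgroupOf (normalizer (N : Set X))).subtype
    have h2 := f.ker.index_mul_card
    rw [show im N G = f.range by rw [MonoidHom.range_comp, Subgroup.range_subtype]]
    rw [← Subgroup.index_ker]
    have hk : Nat.card f.ker = Nat.card N := by
      refine Nat.card_congr ⟨fun y => ⟨((y : G.subgroupOf (normalizer (N : Set X))) : X), ?_⟩,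
        fun n => ⟨⟨⟨n, hGN (hNG n.2)⟩, hNG n.2⟩, ?_⟩, fun y => ?_, fun n => ?_⟩
      · exact (proj_eq_one N _).1 y.2
      · exact (proj_eq_one N _).2 n.2
      · rfl
      · rfl
    rw [← hk, h2, Nat.card_congr (subgroupOfEquivOfLe hGN).toEquiv]
  rw [← h1]
  exact lt_mul_of_one_lt_right Nat.card_pos ((one_lt_card_iff_ne_bot N).2 hN)

theorem isSolvable_of_im (hN : Group.IsSolvable N) (hq : Group.IsSolvable (im N G)) :
    Group.IsSolvable G := by
  set f := (proj N).comp (G.subgroupOf (normalizer (N : Set X))).subtype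
  have hr : f.range = im N G := by rw [MonoidHom.range_comp, Subgroup.range_subtype]
  haveI : Group.IsSolvable f.range := hr ▸ hq
  haveI : Group.IsSolvable f.ker := by
    haveI := hN
    exact Group.isSolvable_of_isSolvable_injective
      (f := MonoidHom.mk' (fun y : f.ker =>
        (⟨((y : G.subgroupOf (normalizer (N : Set X))) : X), (proj_eq_one N _).1 y.2⟩ : N))
        fun _ _ => rfl)
      fun y z e => Subtype.ext (Subtype.ext (Subtype.ext (congrArg Subtype.val e :)))
  have hs : Group.IsSolvable (G.subgroupOf (normalizer (N : Set X))) :=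
    Group.isSolvable_of_ker_le_range f.ker.subtype f.rangeRestrict
      (by rw [MonoidHom.ker_rangeRestrict, Subgroup.range_subtype])
  haveI := hs
  exact Group.isSolvable_of_surjective (f := (subgroupOfEquivOfLe hGN).toMonoidHom)
    (subgroupOfEquivOfLe hGN).surjective

end Quot

end CfsgLib.AbFix
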