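import Cfsg.Agent.AbFix.Key
import Cfsg.Agent.Solvable.Criteria

/-!
A solvable group with a free action of type `(q, q)` with abelian centralizers induces an abelian
group on each minimal invariant normal subgroup.
-/

set_option autoImplicit false
set_option linter.unusedSectionVars false
set_option linter.style.haveILetI false
set_option linter.deprecated false

namespace CfsgLib.AbFix

open Subgroup Pointwise CfsgLib.SZ CfsgLib.SFT
open scoped commutatorElement

universe u

variable {G : Type u} [Group G] [Finite G]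

theorem fixes_conj {V : Subgroup G} {x y v : G} (hx : x ∈ normalizer (V : Set G)) (hv : v ∈ V)
    (hc : ⁅y, x⁆ ∈ centralizer (V : Set G)) (hy : y * v = v * y) :
    y * (x * v * x⁻¹) = x * v * x⁻¹ * y := by
  have h1 : y * v * y⁻¹ = v := by rw [hy, mul_inv_cancel_right]
  have h2 : ⁅y, x⁆ * (x * v * x⁻¹) = x * v * x⁻¹ * ⁅y, x⁆ :=
    (mem_centralizer_iff.1 hc _ ((mem_normalizer_iff.1 hx v).1 hv)).symm
  calc y * (x * v * x⁻¹) = ⁅y, x⁆ * (x * (y * v * y⁻¹) * x⁻¹) * (⁅y, x⁆)⁻¹ * y := by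
        rw [commutatorElement_def]; group
    _ = ⁅y, x⁆ * (x * v * x⁻¹) * (⁅y, x⁆)⁻¹ * y := by rw [h1]
    _ = x * v * x⁻¹ * y := by rw [h2, mul_inv_cancel_right]

variable {q : ℕ} {A H : Subgroup G}

/-- The induced group on a minimal invariant normal subgroup is abelian. -/
theorem Hyp.chief (h : Hyp q A H) (hf : Free A H) (hs : Group.IsSolvable H)
    {t : ℕ} [Fact t.Prime] {V : Subgroup G} (hVH : V ≤ H) (hV1 : V ≠ ⊥)
    (hAV : A ≤ normalizer (V : Set G)) (hHV : H ≤ normalizer (V : Set G)) (hVt : IsPGroup t V)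
    (hVab : V ≤ centralizer (V : Set G))
    (hmin : ∀ U ≤ V, A ≤ normalizer (U : Set G) → H ≤ normalizer (U : Set G) → U = ⊥ ∨ U = V) :
    ⁅H, H⁆ ≤ centralizer (V : Set G) := by
  haveI := Fact.mk h.prime
  haveI : IsMulCommutative V :=
    ⟨⟨fun a b => Subtype.ext (mem_centralizer_iff.1 (hVab b.2) a a.2)⟩⟩
  haveI : Group.IsNilpotent V := hVt.isNilpotent
  have hsV : Group.IsSolvable V := inferInstance
  set C := H ⊓ centralizer (V : Set G) with hC
  have hCH : C ≤ H := inf_le_left
  have hCV : C ≤ centralizer (V : Set G) := inf_le_right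
  have hHC : H ≤ normalizer (C : Set G) :=
    le_normalizer_inf le_normalizer (hHV.trans (normalizer_le_normalizer_centralizer V))
  have hAC : A ≤ normalizer (C : Set G) :=
    le_normalizer_inf h.norm (inv_centralizer hAV)
  by_cases hCeq : H ≤ C
  · exact (commutator_le.2 fun x hx y hy => (hCV (C.mul_mem (C.mul_mem (C.mul_mem (hCeq hx)
      (hCeq hy)) (C.inv_mem (hCeq hx))) (C.inv_mem (hCeq hy)))))
  -- a chief factor `R / C`
  obtain ⟨R, ⟨hCR, hRH, hAR, hHR⟩, hRmin⟩ := exists_minimal_of_wellFoundedLT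
    (fun R : Subgroup G => C < R ∧ R ≤ H ∧ A ≤ normalizer (R : Set G) ∧ H ≤ normalizer (R : Set G))
    ⟨H, lt_of_le_not_ge hCH hCeq, le_rfl, h.norm, le_normalizer⟩
  have hRR : ⁅R, R⁆ ≤ C := by
    have hDR : C ⊔ ⁅R, R⁆ ≤ R := sup_le hCR.le
      (commutator_le.2 fun x hx y hy => R.mul_mem (R.mul_mem (R.mul_mem hx hy) (R.inv_mem hx))
        (R.inv_mem hy))
    by_contra hn
    have hlt : C < C ⊔ ⁅R, R⁆ :=
      lt_of_le_not_ge le_sup_left fun hh => hn (le_sup_right.trans hh)
    have he : C ⊔ ⁅R, R⁆ = R := le_antisymm hDR (hRmin ⟨hlt, hDR.trans hRH,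
      le_normalizer_sup hAC (le_normalizer_commutator hAR hAR),
      le_normalizer_sup hHC (le_normalizer_commutator hHR hHR)⟩ hDR)
    haveI : (C.subgroupOf R).Normal := normal_subgroupOf_of_le_normalizer (hRH.trans hHC)
    haveI : Group.IsSolvable R := isSolvable_of_le hRH hs
    set π := QuotientGroup.mk' (C.subgroupOf R)
    haveI : Group.IsSolvable (R ⧸ C.subgroupOf R) :=
      Group.isSolvable_of_surjective (QuotientGroup.mk'_surjective _)
    have htop : commutator R ⊔ C.subgroupOf R = ⊤ := by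
      refine map_injective R.subtype_injective ?_
      rw [Subgroup.map_sup, map_subtype_commutator, map_subgroupOf_eq_of_le hCR.le,
        ← MonoidHom.range_eq_map, Subgroup.range_subtype, sup_comm, he]
    have hperf : commutator (R ⧸ C.subgroupOf R) = ⊤ := by
      have h1 := congrArg (Subgroup.map π) htop
      rw [Subgroup.map_sup, Subgroup.map_top_of_surjective π (QuotientGroup.mk'_surjective _),
        (Subgroup.map_eq_bot_iff (C.subgroupOf R)).2 (by rw [QuotientGroup.ker_mk']), sup_bot_eq,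
        commutator_def, map_commutator,
        Subgroup.map_top_of_surjective π (QuotientGroup.mk'_surjective _)] at h1
      exact h1
    haveI : Nontrivial (R ⧸ C.subgroupOf R) := by
      rw [← not_subsingleton_iff_nontrivial]
      intro hss
      refine hCR.not_ge fun r hr => mem_subgroupOf.1
        ((QuotientGroup.eq_one_iff (N := C.subgroupOf R) (⟨r, hr⟩ : R)).1
          (Subsingleton.elim _ _))
    exact (Group.IsSolvable.commutator_lt_top_of_nontrivial (G := R ⧸ C.subgroupOf R)).ne hperf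
  obtain ⟨s, hs', hQC⟩ : ∃ s, s.Prime ∧ ¬ syl s A R ≤ C := by
    by_contra hc
    push Not at hc
    exact hCR.not_ge (h.le_of_forall_syl hf hRH hAR fun r hr _ => hc r hr)
  haveI := Fact.mk hs'
  obtain ⟨R₀, hR₀, hAQ⟩ := h.exists_syl hf s hRH hAR
  set Q := syl s A R with hQ
  have hQR : Q ≤ R := syl_le _ _ _
  have hQH : Q ≤ H := hQR.trans hRH
  have hQs : IsPGroup s Q := h.isPGroup_syl hf s hRH hAR
  have hQQ : ∀ x ∈ Q, ∀ y ∈ Q, ⁅x, y⁆ ∈ C := fun x hx y hy =>
    hRR (commutator_mem_commutator (hQR hx) (hQR hy))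
  -- `Q C` contains every `s`-subgroup of `R`
  have hs_le : ∀ U : Subgroup G, U ≤ R → IsPGroup s U → U ≤ Q ⊔ C := by
    intro U hUR hU
    have hMR : Q ⊔ C ≤ R := sup_le hQR hCR.le
    haveI : ((Q ⊔ C).subgroupOf R).Normal := normal_subgroupOf_of_le_normalizer
      (le_normalizer_of_conj fun r hr x hx => by
        rw [show r * x * r⁻¹ = ⁅r, x⁆ * x by rw [commutatorElement_def]; group]
        exact (Q ⊔ C).mul_mem (mem_sup_right (hRR (commutator_mem_commutator hr (hMR hx)))) hx)
    have hidx : ¬ s ∣ ((Q ⊔ C).subgroupOf R).index := by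
      intro hd
      refine R₀.not_dvd_index (hd.trans (index_dvd_of_le ?_))
      intro x hx
      refine mem_subgroupOf.2 (mem_sup_left ?_)
      rw [hR₀]
      exact ⟨x, hx, rfl⟩
    obtain ⟨g, hg⟩ := CfsgLib.Criteria.exists_conj_le (hU.comap_subtype (K := R)) hidx
    intro u hu
    have h1 : g * ⟨u, hUR hu⟩ * g⁻¹ ∈ (Q ⊔ C).subgroupOf R :=
      hg ⟨⟨u, hUR hu⟩, hu, rfl⟩
    have h2 := ‹((Q ⊔ C).subgroupOf R).Normal›.conj_mem _ h1 g⁻¹
    have h3 : g⁻¹ * (g * ⟨u, hUR hu⟩ * g⁻¹) * g⁻¹⁻¹ = (⟨u, hUR hu⟩ : R) := by group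
    rw [h3] at h2
    exact h2
  have hQCn : H ≤ normalizer ((Q ⊔ C : Subgroup G) : Set G) := by
    refine le_normalizer_of_conj fun g hg x hx => ?_
    have hle : (Q ⊔ C).map (MulAut.conj g).toMonoidHom ≤ Q ⊔ C := by
      rw [Subgroup.map_sup]
      refine sup_le (hs_le _ ?_ (hQs.map _)) ?_
      · rintro _ ⟨y, hy, rfl⟩
        exact conj_mem hHR hg (hQR hy)
      · rintro _ ⟨y, hy, rfl⟩
        exact mem_sup_right (conj_mem hHC hg hy)
    exact hle ⟨x, hx, rfl⟩
  have hRQ : R = Q ⊔ C := le_antisymm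
    (hRmin ⟨lt_of_le_not_ge le_sup_right fun hh => hQC (le_sup_left.trans hh),
      sup_le hQH hCH, le_normalizer_sup hAQ hAC, hQCn⟩ (sup_le hQR hCR.le))
    (sup_le hQR hCR.le)
  set N := H ⊓ normalizer (Q : Set G) with hN
  have hNH : N ≤ H := inf_le_left
  have hAN : A ≤ normalizer (N : Set G) := le_normalizer_inf h.norm (hAQ.trans le_normalizer)
  have hQN : Q ≤ N := le_inf hQH le_normalizer
  have hHN : H ≤ C ⊔ N := by
    intro g hg
    obtain ⟨S, hS⟩ := CfsgLib.CoprimeAct.conj_smul_sylow_map (hHR hg) R₀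
    obtain ⟨r, hr⟩ := MulAction.exists_smul_eq R R₀ S
    have hS' : (S : Subgroup R).map R.subtype = MulAut.conj (r : G) • Q := by
      rw [← hr, hR₀]
      exact conj_smul_map R.subtype r (R₀ : Subgroup R)
    rw [← hR₀, hS'] at hS
    have hn : (r : G)⁻¹ * g ∈ N := by
      refine ⟨H.mul_mem (H.inv_mem (hRH r.2)) hg, conj_smul_eq_iff_mem_normalizer.1 ?_⟩
      rw [conj_smul_mul, ← hS, ← conj_smul_mul, inv_mul_cancel, map_one, one_smul]
    have hr' : (r : G) ∈ C ⊔ N :=
      (sup_le (hQN.trans le_sup_right) le_sup_left : Q ⊔ C ≤ C ⊔ N) (hRQ ▸ r.2)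
    rw [show g = r * ((r : G)⁻¹ * g) by group]
    exact mul_mem hr' (mem_sup_right hn)
  -- `C_V(Q) = 1`
  have hW0 : V ⊓ centralizer (Q : Set G) = ⊥ := by
    have he : V ⊓ centralizer (Q : Set G) = V ⊓ centralizer (R : Set G) := by
      refine le_antisymm (le_inf inf_le_left ?_)
        (inf_le_inf_left _ (centralizer_le (SetLike.coe_subset_coe.2 hQR)))
      rw [hRQ, le_centralizer_iff]
      exact sup_le (le_centralizer_symm inf_le_right)
        (hCV.trans (centralizer_le (SetLike.coe_subset_coe.2 inf_le_left)))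
    rcases hmin _ inf_le_left (le_normalizer_inf hAV (inv_centralizer hAQ)) (by
      rw [he]
      exact le_normalizer_inf hHV (hHR.trans (normalizer_le_normalizer_centralizer R))) with
      hb | hb
    · exact hb
    · exact absurd (le_inf hQH (le_centralizer_symm (hb ▸ inf_le_right))) hQC
  have hst : s ≠ t := by
    rintro rfl
    exact CfsgLib.SFT.inf_centralizer_ne_bot hQs hVt (hQH.trans hHV) hV1 hW0
  have hcopV : ∀ U ≤ Q, (Nat.card U).Coprime (Nat.card V) := fun U hU =>
    coprime_of_pgroup_ne hst (hQs.to_le hU) hVt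
  set E : G → Subgroup G := fun d => ⁅V, Q ⊓ centralizer {d}⁆ with hE
  have hEV : ∀ d, E d ≤ V := fun d =>
    le_normalizer_iff_commutator_le_left.1 ((inf_le_left.trans hQH).trans hHV)
  have hAE : ∀ d ∈ A, A ≤ normalizer (E d : Set G) := fun d hd =>
    le_normalizer_commutator hAV (h.inv_cx hAQ hd)
  have hQE : ∀ d, Q ≤ normalizer (E d : Set G) := by
    intro d
    refine le_normalizer_of_conj fun x hx => ?_
    have hle : (E d).map (MulAut.conj x).toMonoidHom ≤ E d := by
      rw [hE, map_commutator, commutator_le]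
      rintro _ ⟨v, hv, rfl⟩ _ ⟨y, hy, rfl⟩
      show ⁅x * v * x⁻¹, x * y * x⁻¹⁆ ∈ _
      have hw : x * v * x⁻¹ ∈ V := conj_mem (hQH.trans hHV) hx hv
      have hwy : ⁅x * v * x⁻¹, y⁆ ∈ ⁅V, Q ⊓ centralizer {d}⁆ := commutator_mem_commutator hw hy
      have hc : ⁅x, y⁆ ∈ centralizer (V : Set G) := hCV (hQQ x hx y hy.1)
      have e1 : ⁅x, y⁆ * (x * v * x⁻¹) = x * v * x⁻¹ * ⁅x, y⁆ :=
        (mem_centralizer_iff.1 hc _ hw).symm
      have e2 : ⁅x, y⁆ * ⁅x * v * x⁻¹, y⁆ = ⁅x * v * x⁻¹, y⁆ * ⁅x, y⁆ :=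
        (mem_centralizer_iff.1 hc _ (hEV d hwy)).symm
      have e : ⁅x * v * x⁻¹, x * y * x⁻¹⁆ =
          (x * v * x⁻¹ * ⁅x, y⁆ * (x * v * x⁻¹)⁻¹ * (⁅x, y⁆)⁻¹) *
            (⁅x, y⁆ * ⁅x * v * x⁻¹, y⁆ * (⁅x, y⁆)⁻¹) := by
        simp only [commutatorElement_def]; group
      rw [e, ← e1, e2, mul_inv_cancel_right, mul_inv_cancel_right, mul_inv_cancel, one_mul]
      exact hwy
    exact fun z hz => hle ⟨z, hz, rfl⟩
  have hfixQ : ∀ S : Subgroup G, S ≤ Q →
      Q ≤ normalizer ((V ⊓ centralizer (S : Set G) : Subgroup G) : Set G) := by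
    intro S hS
    refine le_normalizer_of_conj fun x hx v hv => ⟨conj_mem (hQH.trans hHV) hx hv.1,
      mem_centralizer_iff.2 fun y hy => ?_⟩
    exact fixes_conj (hHV (hQH hx)) hv.1 (hCV (hQQ y (hS hy) x hx))
      (mem_centralizer_iff.1 hv.2 y hy)
  have hpair : ∀ {d e : G}, Ind A d e → Q ⊓ centralizer {e} ≤ centralizer (E d : Set G) := by
    intro d e hde
    refine le_centralizer_symm (le_trans (h.key hf hde (inf_le_left.trans hQH) inf_le_right
      (h.inv_cx hAQ hde.1) hVab (hAV hde.2.2.1) ((inf_le_left.trans hQH).trans hHV)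
      (W := V ⊓ centralizer ((Q ⊓ centralizer {e} : Subgroup G) : Set G)) inf_le_left
      (inf_le_left.trans (hfixQ _ inf_le_left)) ?_ (hcopV _ inf_le_left)) inf_le_right)
    refine fun v hv => ⟨hv.1, mem_centralizer_iff.2 fun y hy => ?_⟩
    exact h.comm e hde.2.2.1 hde.2.2.2.1 y ⟨hQH hy.1, hy.2⟩ v ⟨hVH hv.1, hv.2⟩
  have hEE : ∀ d, ⁅E d, Q ⊓ centralizer {d}⁆ = E d := fun d =>
    CfsgLib.CoprimeAct.commutator_commutator ((inf_le_left.trans hQH).trans hHV)
      (hcopV _ inf_le_left) (Or.inr hsV)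
  -- `V` is generated by the `E d`
  set J : Subgroup G := ⨆ d : {d : G // d ∈ A ∧ d ≠ 1}, E d with hJ
  have hJV : J ≤ V := iSup_le fun d => hEV d
  have hVJ : V ≤ J := by
    have hQJ : Q ≤ normalizer (J : Set G) := le_normalizer_iSup fun d => hQE d
    let Y : Subgroup G :=
      { carrier := {x | x ∈ Q ∧ ∀ v ∈ V, ⁅v, x⁆ ∈ J}
        one_mem' := ⟨one_mem _, fun v _ => by simp⟩
        mul_mem' := by
          rintro x y ⟨hx, hx'⟩ ⟨hy, hy'⟩
          refine ⟨mul_mem hx hy, fun v hv => ?_⟩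
          rw [show ⁅v, x * y⁆ = ⁅v, x⁆ * (x * ⁅v, y⁆ * x⁻¹) by
            simp only [commutatorElement_def]; group]
          exact mul_mem (hx' v hv) (conj_mem hQJ hx (hy' v hv))
        inv_mem' := by
          rintro x ⟨hx, hx'⟩
          refine ⟨inv_mem hx, fun v hv => ?_⟩
          rw [show ⁅v, x⁻¹⁆ = x⁻¹ * (⁅v, x⁆)⁻¹ * x⁻¹⁻¹ by
            simp only [commutatorElement_def]; group]
          exact conj_mem hQJ (inv_mem hx) (inv_mem (hx' v hv)) }
    have hQY : Q ≤ Y := h.gen hQH hAQ fun a ha ha1 x hx => ⟨hx.1, fun v hv =>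
      le_iSup (fun d : {d : G // d ∈ A ∧ d ≠ 1} => E d) ⟨a, ha, ha1⟩
        (commutator_mem_commutator hv hx)⟩
    have h1 : ⁅V, Q⁆ ≤ J := commutator_le.2 fun v hv x hx => (hQY hx).2 v hv
    conv_lhs => rw [← CfsgLib.CoprimeAct.commutator_sup_centralizer (hQH.trans hHV)
      (hcopV Q le_rfl) (Or.inr hsV), hW0, sup_bot_eq]
    exact h1
  -- the components of `N` centralize `Q` modulo `C`
  have hmain : ∀ c ∈ A, c ≠ 1 → ∀ e ∈ A, e ≠ 1 → ∀ k ∈ N ⊓ centralizer {c},
      ∀ z ∈ Q ⊓ centralizer {e}, k * z * k⁻¹ * z⁻¹ ∈ C := by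
    intro c hc hc1 e he he1 k hk z hz
    by_cases hec : Ind A e c
    swap
    · have h1 := h.comm c hc hc1 k ⟨hNH hk.1, hk.2⟩ z
        ⟨hQH hz.1, (h.centralizer_eq_of_dep he he1 hc hc1 hec).symm ▸ hz.2⟩
      rw [h1, mul_inv_cancel_right, mul_inv_cancel]
      exact one_mem _
    have hze : e * z = z * e := (mem_centralizer_singleton_iff.1 hz.2).symm
    refine h.commute_mod hf hec (C := C) (inf_le_left.trans hNH) inf_le_right
      (h.inv_cx hAN hc) (hAC he) ((inf_le_left.trans hNH).trans hHC) (hHC (hQH hz.1))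
      (by rw [hze, mul_inv_cancel_right, mul_inv_cancel]; exact one_mem _) ?_ k hk
    intro k hk
    have hz' : k * z * k⁻¹ ∈ Q := conj_mem inf_le_right hk.1 hz.1
    set z' := k * z * k⁻¹
    have hez' : e * z' * e⁻¹ ∈ Q := conj_mem hAQ he hz'
    set w := e * z' * e⁻¹ * z'⁻¹ with hw
    have hwQ : w ∈ Q := mul_mem hez' (inv_mem hz')
    refine ⟨hQH hwQ, ?_⟩
    suffices hsuff : ∀ d ∈ A, d ≠ 1 → w ∈ centralizer (E d : Set G) by
      have h1 : J ≤ centralizer ({w} : Set G) := iSup_le fun d v hv =>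
        mem_centralizer_singleton_iff.2 (mem_centralizer_iff.1 (hsuff d d.2.1 d.2.2) v hv)
      exact mem_centralizer_iff.2 fun v hv => mem_centralizer_singleton_iff.1 (h1 (hVJ hv))
    intro d hd hd1
    by_cases hde : Ind A d e
    · have hzd : z ∈ centralizer (E d : Set G) := hpair hde hz
      have hz'd : z' ∈ centralizer (E d : Set G) := by
        by_cases hdc : Ind A d c
        · have hW : E d ≤ E d ⊓ centralizer {z'} := by
            conv_lhs => rw [← hEE d]
            refine h.key hf hdc (inf_le_left.trans hQH) inf_le_right (h.inv_cx hAQ hd)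
              (((hEV d).trans hVab).trans (centralizer_le (SetLike.coe_subset_coe.2 (hEV d))))
              (hAE d hd hc) (inf_le_left.trans (hQE d)) inf_le_left ?_ ?_
              ((hcopV _ inf_le_left).coprime_dvd_right (card_dvd_of_le (hEV d)))
            · refine le_normalizer_of_conj fun x hx v hv => ⟨conj_mem (hQE d) hx.1 hv.1,
                mem_centralizer_singleton_iff.2 (fixes_conj (hHV (hQH hx.1)) (hEV d hv.1)
                  (hCV (hQQ z' hz' x hx.1))
                  (mem_centralizer_singleton_iff.1 hv.2).symm).symm⟩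
            · refine fun v hv => ⟨hv.1, mem_centralizer_singleton_iff.2 ?_⟩
              have hkv : k * v = v * k := h.comm c hc hc1 k ⟨hNH hk.1, hk.2⟩ v
                ⟨hVH (hEV d hv.1), hv.2⟩
              have hzv : v * z = z * v := mem_centralizer_iff.1 hzd v hv.1
              have hkv' : k⁻¹ * v = v * k⁻¹ := (show Commute k v from hkv).inv_left.eq
              calc v * z' = v * k * z * k⁻¹ := by simp only [z']; group
                _ = k * (v * z) * k⁻¹ := by rw [← hkv]; group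
                _ = z' * v := by rw [hzv, mul_assoc, mul_assoc z v, ← hkv']; simp [z', mul_assoc]
          exact mem_centralizer_iff.2 fun v hv => mem_centralizer_singleton_iff.1 (hW hv).2
        · have hcd := h.centralizer_eq_of_dep hd hd1 hc hc1 hdc
          have hkE : k⁻¹ ∈ normalizer (E d : Set G) := by
            refine mem_normalizer_of_conj ?_
            have hle : (E d).map (MulAut.conj k⁻¹).toMonoidHom ≤ E d := by
              rw [hE, map_commutator, commutator_le]
              rintro _ ⟨v, hv, rfl⟩ _ ⟨y, hy, rfl⟩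
              refine commutator_mem_commutator (conj_mem hHV (H.inv_mem (hNH hk.1)) hv) ?_
              have hyk : k * y = y * k := h.comm c hc hc1 k ⟨hNH hk.1, hk.2⟩ y
                ⟨hQH hy.1, hcd.symm ▸ hy.2⟩
              show k⁻¹ * y * k⁻¹⁻¹ ∈ _
              rw [inv_inv, mul_assoc, ← hyk, inv_mul_cancel_left]
              exact hy
            exact fun v hv => hle ⟨v, hv, rfl⟩
          refine mem_centralizer_iff.2 fun v hv => ?_
          have h1 := (mem_normalizer_iff.1 hkE v).1 hv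
          rw [inv_inv] at h1
          have h2 : (k⁻¹ * v * k) * z = z * (k⁻¹ * v * k) := mem_centralizer_iff.1 hzd _ h1
          calc v * z' = k * ((k⁻¹ * v * k) * z) * k⁻¹ := by simp only [z']; group
            _ = k * (z * (k⁻¹ * v * k)) * k⁻¹ := by rw [h2]
            _ = z' * v := by simp only [z']; group
      exact mul_mem (conj_mem ((hAE d hd).trans (normalizer_le_normalizer_centralizer _)) he hz'd)
        (inv_mem hz'd)
    · have hce := h.centralizer_eq_of_dep hd hd1 he he1 hde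
      have hQEC : Q ≤ normalizer (centralizer (E d : Set G) : Set G) :=
        (hQE d).trans (normalizer_le_normalizer_centralizer _)
      let Y : Subgroup G :=
        { carrier := {y | y ∈ Q ∧ e * y * e⁻¹ * y⁻¹ ∈ centralizer (E d : Set G)}
          one_mem' := ⟨one_mem _, by simp⟩
          mul_mem' := by
            rintro x y ⟨hx, hx'⟩ ⟨hy, hy'⟩
            refine ⟨mul_mem hx hy, ?_⟩
            rw [show e * (x * y) * e⁻¹ * (x * y)⁻¹ =
              (e * x * e⁻¹ * x⁻¹) * (x * (e * y * e⁻¹ * y⁻¹) * x⁻¹) by group]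
            exact mul_mem hx' (conj_mem hQEC hx hy')
          inv_mem' := by
            rintro x ⟨hx, hx'⟩
            refine ⟨inv_mem hx, ?_⟩
            rw [show e * x⁻¹ * e⁻¹ * x⁻¹⁻¹ = x⁻¹ * (e * x * e⁻¹ * x⁻¹)⁻¹ * x⁻¹⁻¹ by group]
            exact conj_mem hQEC (inv_mem hx) (inv_mem hx') }
      have hQY : Q ≤ Y := h.gen hQH hAQ fun a ha ha1 y hy => by
        refine ⟨hy.1, ?_⟩
        by_cases hda : Ind A d a
        · refine mul_mem (hpair hda ⟨conj_mem hAQ he hy.1, ?_⟩) (inv_mem (hpair hda hy))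
          exact conj_mem (h.inv_centralizer_singleton ha) he hy.2
        · have hya := h.centralizer_eq_of_dep hd hd1 ha ha1 hda
          have h1 : y * e = e * y := mem_centralizer_singleton_iff.1
            (hce.symm ▸ hya ▸ hy.2)
          rw [← h1, mul_inv_cancel_right, mul_inv_cancel]
          exact one_mem _
      exact (hQY hz').2
  -- the only acting component
  obtain ⟨a, ha, ha1, hQa⟩ : ∃ a ∈ A, a ≠ 1 ∧ ¬ Q ⊓ centralizer {a} ≤ C := by
    by_contra hc
    push Not at hc
    exact hQC (h.gen hQH hAQ fun a ha ha1 => hc a ha ha1)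
  set L := Q ⊓ centralizer {a}
  have hNW : ∀ c ∈ A, c ≠ 1 →
      N ⊓ centralizer {c} ≤ normalizer ((V ⊓ centralizer (L : Set G) : Subgroup G) : Set G) := by
    intro c hc hc1
    refine le_normalizer_of_conj fun k hk v hv => ⟨conj_mem hHV (hNH hk.1) hv.1,
      mem_centralizer_iff.2 fun z hz => ?_⟩
    refine fixes_conj (hHV (hNH hk.1)) hv.1 (hCV ?_) (mem_centralizer_iff.1 hv.2 z hz)
    rw [← commutatorElement_inv]
    exact inv_mem (by rw [commutatorElement_def]; exact hmain c hc hc1 a ha ha1 k hk z hz)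
  have hWbot : V ⊓ centralizer (L : Set G) = ⊥ := by
    have hn : N ≤ normalizer ((V ⊓ centralizer (L : Set G) : Subgroup G) : Set G) :=
      h.gen hNH hAN hNW
    have hCn : C ≤ normalizer ((V ⊓ centralizer (L : Set G) : Subgroup G) : Set G) :=
      (hCV.trans (centralizer_le (SetLike.coe_subset_coe.2 inf_le_left))).trans
        (centralizer_le_normalizer _)
    rcases hmin _ inf_le_left (le_normalizer_inf hAV (inv_centralizer (h.inv_cx hAQ ha)))
      (hHN.trans (sup_le hCn hn)) with hb | hb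
    · exact hb
    · exact absurd (le_inf (inf_le_left.trans hQH) (le_centralizer_symm (hb ▸ inf_le_right))) hQa
  have hEaV : ⁅V, L⁆ = V := by
    conv_rhs => rw [← CfsgLib.CoprimeAct.commutator_sup_centralizer
      ((inf_le_left.trans hQH).trans hHV) (hcopV L inf_le_left) (Or.inr hsV), hWbot, sup_bot_eq]
  have hHle : H ≤ C ⊔ (H ⊓ centralizer {a}) := by
    refine hHN.trans (sup_le le_sup_left (h.gen hNH hAN fun c hc hc1 => ?_))
    by_cases hac : Ind A a c
    · refine le_trans (le_inf (inf_le_left.trans hNH) ?_) le_sup_left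
      refine le_centralizer_symm (le_trans (le_of_eq hEaV.symm) (le_trans (h.key hf hac
        (inf_le_left.trans hQH) inf_le_right (h.inv_cx hAQ ha) hVab (hAV hc)
        ((inf_le_left.trans hQH).trans hHV)
        (W := V ⊓ centralizer ((N ⊓ centralizer {c} : Subgroup G) : Set G)) inf_le_left ?_ ?_
        (hcopV L inf_le_left)) inf_le_right))
      · refine le_normalizer_of_conj fun z hz v hv => ⟨conj_mem (hQH.trans hHV) hz.1 hv.1,
          mem_centralizer_iff.2 fun k hk => ?_⟩
        refine fixes_conj (hHV (hQH hz.1)) hv.1 (hCV ?_) (mem_centralizer_iff.1 hv.2 k hk)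
        rw [commutatorElement_def]
        exact hmain c hc hc1 a ha ha1 k hk z hz
      · refine fun v hv => ⟨hv.1, mem_centralizer_iff.2 fun k hk => ?_⟩
        exact h.comm c hc hc1 k ⟨hNH hk.1, hk.2⟩ v ⟨hVH hv.1, hv.2⟩
    · exact le_trans (le_inf (inf_le_left.trans hNH)
        (inf_le_right.trans (h.centralizer_eq_of_dep ha ha1 hc hc1 hac).le)) le_sup_right
  refine le_trans (commutator_le.2 fun x hx y hy => ?_) hCV
  set π := proj C
  have hdec : ∀ x ∈ H, ∃ u : normalizer (C : Set G), (u : G) ∈ H ⊓ centralizer {a} ∧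
      ∃ hx : x ∈ normalizer (C : Set G), π u = π ⟨x, hx⟩ := by
    intro x hx
    have hx' := hHle hx
    rw [sup_comm] at hx'
    have hxm : x ∈ ((H ⊓ centralizer {a} : Subgroup G) : Set G) * (C : Set G) := by
      rw [← coe_mul_of_left_le_normalizer_right _ _ (inf_le_left.trans hHC)]
      exact hx'
    obtain ⟨u, hu, c, hc, rfl⟩ := hxm
    refine ⟨⟨u, hHC hu.1⟩, hu, hHC hx, ?_⟩
    exact QuotientGroup.eq.2 (mem_subgroupOf.2 (by simpa using hc))
  obtain ⟨u, hu, hxN, hux⟩ := hdec x hx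
  obtain ⟨w, hw, hyN, hwy⟩ := hdec y hy
  have h1 : π ⁅(⟨x, hxN⟩ : normalizer (C : Set G)), ⟨y, hyN⟩⁆ = 1 := by
    rw [map_commutatorElement, ← hux, ← hwy, ← map_commutatorElement,
      show ⁅u, w⁆ = 1 from Subtype.ext (by
        exact commutatorElement_eq_one_iff_mul_comm.2 (h.comm a ha ha1 u hu w hw)), map_one]
  exact (proj_eq_one C _).1 h1

end CfsgLib.AbFix
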