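import Cfsg.Agent.AbFix.Chief

/-!
A solvable group with a free action of type `(q, q)` with abelian centralizers has abelian
Fitting quotient; consequences for subgroups centralizing cores.
-/

set_option autoImplicit false
set_option linter.unusedSectionVars false
set_option linter.style.haveILetI false
set_option linter.deprecated false

namespace CfsgLib.AbFix

open Subgroup Pointwise CfsgLib.SZ CfsgLib.SFT
open scoped commutatorElement

universe u

variable {G : Type u} [Group G] [Finite G]

theorem iSup_oc_eq (H : Subgroup G) :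
    (⨆ t : Nat.Primes, oc t H) = (Cfsg.fittingSubgroup H).map H.subtype := by
  rw [CfsgLib.Solvable.fittingSubgroup_eq_iSup_pCore, Subgroup.map_iSup]
  rfl

/-- Solvable, free, abelian centralizers: the commutator subgroup lies in the Fitting subgroup. -/
theorem derived_le_cores : ∀ (n : ℕ) (G : Type u) [Group G] [Finite G] (q : ℕ)
    (A H : Subgroup G), Nat.card H = n → Hyp q A H → Free A H → Group.IsSolvable H →
    ⁅H, H⁆ ≤ ⨆ t : Nat.Primes, oc t H := by
  intro n
  induction n using Nat.strong_induction_on with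
  | _ n ih =>
  intro G _ _ q A H hn h hf hs
  by_cases hH1 : H = ⊥
  · subst hH1
    rw [commutator_bot_left]
    exact bot_le
  obtain ⟨t, ht, hot⟩ := exists_oc_ne_bot hs hH1
  haveI := Fact.mk ht
  obtain ⟨V, ⟨hV1, hVo, hAV, hHV⟩, hVmin⟩ := exists_minimal_of_wellFoundedLT
    (fun U : Subgroup G => U ≠ ⊥ ∧ U ≤ oc t H ∧ A ≤ normalizer (U : Set G) ∧
      H ≤ normalizer (U : Set G))
    ⟨oc t H, hot, le_rfl, le_normalizer_oc_of_le t h.norm, le_normalizer_oc t H⟩
  have hVH : V ≤ H := hVo.trans (oc_le t H)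
  have hVt : IsPGroup t V := (isPGroup_oc t H).to_le hVo
  haveI : Group.IsNilpotent V := hVt.isNilpotent
  haveI : Nontrivial V := (nontrivial_iff_ne_bot V).2 hV1
  have hmin : ∀ U ≤ V, A ≤ normalizer (U : Set G) → H ≤ normalizer (U : Set G) →
      U = ⊥ ∨ U = V := fun U hUV hUA hUH => by
    by_cases hU : U = ⊥
    · exact Or.inl hU
    · exact Or.inr (le_antisymm hUV (hVmin ⟨hU, hUV.trans hVo, hUA, hUH⟩ hUV))
  have hVab : V ≤ centralizer (V : Set G) := by
    rw [← commutator_eq_bot_iff_le_centralizer]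
    have hle : ⁅V, V⁆ ≤ V := le_normalizer_iff_commutator_le_left.1 le_normalizer
    refine (hmin _ hle (le_normalizer_commutator hAV hAV)
      (le_normalizer_commutator hHV hHV)).resolve_right fun he => ?_
    refine (Group.IsSolvable.commutator_lt_top_of_nontrivial (G := V)).ne
      (map_injective V.subtype_injective ?_)
    rw [map_subtype_commutator, he, ← MonoidHom.range_eq_map, Subgroup.range_subtype]
  have hc := h.chief hf hs hVH hV1 hAV hHV hVt hVab hmin
  -- the quotient
  set N := normalizer (V : Set G)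
  set π := proj V
  haveI hsH : Group.IsSolvable (im V H) := by
    haveI := hs
    haveI : Group.IsSolvable (H.subgroupOf N) := Group.isSolvable_of_isSolvable_injective
      (f := (subgroupOfEquivOfLe hHV).toMonoidHom) (MulEquiv.injective _)
    exact Group.isSolvable_of_surjective (π.subgroupMap_surjective _)
  have hq := ih _ (hn ▸ card_im_lt h hVH hAV hHV hV1) _ q (im V A) (im V H) rfl
    (hyp_im h hVH hAV hHV) (free_im h hVH hAV hHV hf) hsH
  -- the commutator subgroup is nilpotent
  set D := ⁅H, H⁆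
  have hDH : D ≤ H := le_normalizer_iff_commutator_le_left.1 le_normalizer
  let f : D →* N ⧸ V.subgroupOf N := π.comp (inclusion (hDH.trans hHV))
  have hrange : f.range ≤ ⨆ t : Nat.Primes, oc t (im V H) := by
    refine le_trans ?_ hq
    rintro _ ⟨x, rfl⟩
    have he : (inclusion (hDH.trans hHV)) x ∈ ⁅H.subgroupOf N, H.subgroupOf N⁆ := by
      have h1 : ((⁅H.subgroupOf N, H.subgroupOf N⁆).map N.subtype) = D := by
        rw [map_commutator, map_subgroupOf_eq_of_le hHV]
      obtain ⟨y, hy, hyx⟩ := h1.ge x.2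
      rwa [show inclusion (hDH.trans hHV) x = y from Subtype.ext hyx.symm]
    rw [← map_commutator]
    exact ⟨_, he, rfl⟩
  haveI : Group.IsNilpotent f.range := by
    rw [iSup_oc_eq] at hrange
    haveI : Group.IsNilpotent (Cfsg.fittingSubgroup (im V H)) :=
      CfsgLib.Solvable.isNilpotent_fittingSubgroup
    haveI : Group.IsNilpotent ((Cfsg.fittingSubgroup (im V H)).map (im V H).subtype) :=
      Group.nilpotent_of_surjective _ ((im V H).subtype.subgroupMap_surjective _)
    haveI := Subgroup.isNilpotent (f.range.subgroupOf ((Cfsg.fittingSubgroup (im V H)).map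
      (im V H).subtype))
    exact Group.nilpotent_of_mulEquiv (subgroupOfEquivOfLe hrange)
  have hD : Group.IsNilpotent D := by
    refine Subgroup.isNilpotent_of_ker_le_center f.rangeRestrict fun x hx => mem_center_iff.2 fun y =>
      Subtype.ext ?_
    rw [MonoidHom.ker_rangeRestrict, MonoidHom.mem_ker] at hx
    show (y : G) * x = x * y
    have hxV : (x : G) ∈ V := (proj_eq_one V _).1 hx
    exact (mem_centralizer_iff.1 (hc y.2) x hxV).symm
  haveI := hD
  haveI : (D.subgroupOf H).Normal :=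
    normal_subgroupOf_of_le_normalizer (le_normalizer_commutator le_normalizer le_normalizer)
  haveI : Group.IsNilpotent (D.subgroupOf H) :=
    Group.nilpotent_of_mulEquiv (subgroupOfEquivOfLe hDH).symm
  rw [iSup_oc_eq, ← map_subgroupOf_eq_of_le hDH]
  exact map_mono (CfsgLib.Solvable.le_fittingSubgroup inferInstance inferInstance)

theorem pow_card_of_mem {W : Subgroup G} {x : G} (hx : x ∈ W) : x ^ Nat.card W = 1 := by
  have h1 : (⟨x, hx⟩ : W) ^ Nat.card W = 1 := pow_card_eq_one'
  exact congrArg Subtype.val h1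

theorem orderOf_dvd_card_of_mem {W : Subgroup G} {x : G} (hx : x ∈ W) :
    orderOf x ∣ Nat.card W := orderOf_dvd_of_pow_eq_one (pow_card_of_mem hx)

variable {q : ℕ} {A H : Subgroup G}

/-- An element written as `n x n⁻¹ = [n, x] x`, split along `O_r` and `O_{r'}`. -/
theorem Hyp.conj_split (h : Hyp q A H) (hf : Free A H) (hs : Group.IsSolvable H) (r : ℕ)
    [Fact r.Prime] {n x : G} (hn : n ∈ H) (hx : x ∈ H) :
    ∃ f ∈ oc r H, ∃ g ∈ (⨆ t : {t : Nat.Primes // (t : ℕ) ≠ r}, oc t H),
      n * x * n⁻¹ = f * g * x := by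
  set D := ⨆ t : {t : Nat.Primes // (t : ℕ) ≠ r}, oc t H
  have hD : H ≤ normalizer (D : Set G) := le_normalizer_iSup fun t => le_normalizer_oc t H
  have hle : ⁅H, H⁆ ≤ oc r H ⊔ D := (derived_le_cores _ G q A H rfl h hf hs).trans
    (iSup_le fun t => by
      by_cases he : (t : ℕ) = r
      · rw [he]; exact le_sup_left
      · exact le_sup_of_le_right
          (le_iSup (fun t : {t : Nat.Primes // (t : ℕ) ≠ r} => oc t H) ⟨t, he⟩))
  have hm := hle (commutator_mem_commutator hn hx)
  have hm' : ⁅n, x⁆ ∈ ((oc r H : Subgroup G) : Set G) * (D : Set G) := by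
    rw [← coe_mul_of_left_le_normalizer_right _ _ ((oc_le r H).trans hD)]
    exact hm
  obtain ⟨f, hf', g, hg, he⟩ := hm'
  refine ⟨f, hf', g, hg, ?_⟩
  rw [show f * g = ⁅n, x⁆ from he, commutatorElement_def]
  group

theorem cores_le_oc' (r : ℕ) [Fact r.Prime] (H : Subgroup G) :
    (⨆ t : {t : Nat.Primes // (t : ℕ) ≠ r}, oc t H) ≤ oc' r H := iSup_le fun t => by
  haveI := Fact.mk t.1.2
  exact le_oc' (oc_le t H) (pgroup_coprime_prime t.2 (isPGroup_oc t H)) (le_normalizer_oc t H)

/-- An `r`-subgroup centralizing all other cores lies in `O_r`. -/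
theorem Hyp.le_oc_others (h : Hyp q A H) (hf : Free A H) (hs : Group.IsSolvable H) {r : ℕ}
    [Fact r.Prime] {U : Subgroup G} (hUH : U ≤ H) (hU : IsPGroup r U)
    (hc : ∀ t : ℕ, t.Prime → t ≠ r → U ≤ centralizer (oc t H : Set G)) : U ≤ oc r H := by
  set W := oc r H ⊔ U
  have hWH : W ≤ H := sup_le (oc_le r H) hUH
  have hWr : IsPGroup r W := by
    rw [show W = U ⊔ oc r H from sup_comm _ _]
    exact hU.to_sup_of_normal_right' (isPGroup_oc r H) (hUH.trans (le_normalizer_oc r H))
  set D := ⨆ t : {t : Nat.Primes // (t : ℕ) ≠ r}, oc t H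
  have hWD : W ≤ centralizer (D : Set G) := le_centralizer_symm (iSup_le fun t => by
    haveI := Fact.mk t.1.2
    exact le_centralizer_symm (sup_le (le_centralizer_oc (Ne.symm t.2)) (hc t t.1.2 t.2)))
  refine le_trans le_sup_right (le_oc hWH hWr ?_)
  refine le_normalizer_of_conj fun n hn x hx => ?_
  obtain ⟨f, hf', g, hg, he⟩ := h.conj_split hf hs r hn (hWH hx)
  have hfW : f ∈ W := mem_sup_left hf'
  have hfx : f * x ∈ W := W.mul_mem hfW hx
  have hcm : Commute g (f * x) := mem_centralizer_iff.1 (hWD hfx) g hg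
  have hcf : Commute g f := mem_centralizer_iff.1 (hWD hfW) g hg
  have e : n * x * n⁻¹ = g * (f * x) := by rw [he, ← hcf.eq]; group
  have hg1 : g = 1 := by
    obtain ⟨i, hi⟩ := hWr ⟨f * x, hfx⟩
    obtain ⟨j, hj⟩ := hWr ⟨x, hx⟩
    have hi' : (f * x) ^ r ^ i = 1 := by simpa using congrArg Subtype.val hi
    have hj' : x ^ r ^ j = 1 := by simpa using congrArg Subtype.val hj
    have hgr : g ^ r ^ (i + j) = 1 := by
      have h1 : (n * x * n⁻¹) ^ r ^ (i + j) = 1 := by
        rw [conj_pow, pow_add, mul_comm, pow_mul, hj', one_pow]; group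
      rw [e, hcm.mul_pow, show (f * x) ^ r ^ (i + j) = 1 by rw [pow_add, pow_mul, hi', one_pow],
        mul_one] at h1
      exact h1
    refine orderOf_eq_one_iff.1 (Nat.eq_one_of_dvd_coprimes
      (((coprime_card_oc' r H).symm).pow_left (i + j)) (orderOf_dvd_of_pow_eq_one hgr) ?_)
    exact orderOf_dvd_card_of_mem (cores_le_oc' r H hg)
  rw [e, hg1, one_mul]
  exact hfx

/-- An `r'`-subgroup centralizing `O_r` lies in `O_{r'}`. -/
theorem Hyp.le_oc'_of_centralizes (h : Hyp q A H) (hf : Free A H) (hs : Group.IsSolvable H) {r : ℕ}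
    [Fact r.Prime] {U : Subgroup G} (hUH : U ≤ H) (hU : (Nat.card U).Coprime r)
    (hc : U ≤ centralizer (oc r H : Set G)) : U ≤ oc' r H := by
  set W := oc' r H ⊔ U
  have hWH : W ≤ H := sup_le (oc'_le r H) hUH
  have hWc : (Nat.card W).Coprime r := by
    refine Nat.Coprime.coprime_dvd_left ?_ ((coprime_card_oc' r H).mul_left hU)
    have hn : U ≤ normalizer (oc' r H : Set G) := hUH.trans (le_normalizer_oc' r H)
    rw [show W = oc' r H ⊔ U from rfl, sup_comm, mul_comm]
    exact CfsgLib.Solvable.card_sup_dvd hn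
  have hWo : W ≤ centralizer (oc r H : Set G) := sup_le (oc'_le_centralizer_oc r H) hc
  refine le_trans le_sup_right (le_oc' hWH hWc ?_)
  refine le_normalizer_of_conj fun n hn x hx => ?_
  obtain ⟨f, hf', g, hg, he⟩ := h.conj_split hf hs r hn (hWH hx)
  have hgx : g * x ∈ W := W.mul_mem (mem_sup_left (cores_le_oc' r H hg)) hx
  have hcm : Commute f (g * x) := mem_centralizer_iff.1 (hWo hgx) f hf'
  have e : n * x * n⁻¹ = f * (g * x) := by rw [he, mul_assoc]
  have hf1 : f = 1 := by
    obtain ⟨i, hi⟩ := isPGroup_oc r H ⟨f, hf'⟩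
    have hi' : f ^ r ^ i = 1 := by simpa using congrArg Subtype.val hi
    have hfm : f ^ Nat.card W = 1 := by
      have h1 : (n * x * n⁻¹) ^ Nat.card W = 1 := by
        rw [conj_pow, pow_card_of_mem hx]; group
      rwa [e, hcm.mul_pow, pow_card_of_mem hgx, mul_one] at h1
    exact orderOf_eq_one_iff.1 (Nat.eq_one_of_dvd_coprimes (hWc.pow_right i)
      (orderOf_dvd_of_pow_eq_one hfm) (orderOf_dvd_of_pow_eq_one hi'))
  rw [e, hf1, one_mul]
  exact hgx

end CfsgLib.AbFix
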