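import Cfsg.Agent.AbFix.Basic

/-!
The key action lemma: fixed-point-free elements of prime order on an abelian group acting on a
second group with given fixed points.
-/

set_option autoImplicit false
set_option linter.unusedSectionVars false
set_option linter.style.haveILetI false
set_option linter.deprecated false

namespace CfsgLib.AbFix

open Subgroup Pointwise CfsgLib.SZ CfsgLib.SFT
open scoped commutatorElement

universe u

variable {G : Type u} [Group G] [Finite G]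

/-- `V = W · C_V(U)` if `x` is fixed-point-free on the abelian group `U` and `W` contains the fixed
points of `x` on `V`. -/
theorem le_sup_of_fpf {p : ℕ} [Fact p.Prime] {U V W : Subgroup G} {x : G}
    (hU : U ≤ centralizer (U : Set G)) (hV : V ≤ centralizer (V : Set G)) (hx : x ^ p = 1)
    (hxU : x ∈ normalizer (U : Set G)) (hxV : x ∈ normalizer (V : Set G))
    (hUV : U ≤ normalizer (V : Set G)) (hfU : U ⊓ centralizer {x} = ⊥)
    (hUW : U ≤ normalizer (W : Set G))
    (hW : V ⊓ centralizer {x} ≤ W) (hcop : (Nat.card U).Coprime (Nat.card V)) :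
    V ≤ W ⊔ (V ⊓ centralizer (U : Set G)) := by
  classical
  haveI := Fintype.ofFinite U
  letI : CommGroup V := { (inferInstance : Group V) with
    mul_comm := fun a b => Subtype.ext (mem_centralizer_iff.1 (hV b.2) a a.2) }
  set N := normalizer (V : Set G)
  let φ : N →* MulAut V := normalizerMonoidHom V
  set X : N := ⟨x, hxV⟩ with hX
  let ι : U → N := fun u => ⟨u, hUV u.2⟩
  -- every element of `x U` is conjugate to `x`
  let c : U → U := fun t => ⟨x⁻¹ * t * x * (t : G)⁻¹, U.mul_mem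
    ((mem_normalizer_iff''.1 hxU _).1 t.2) (U.inv_mem t.2)⟩
  have hcinj : Function.Injective c := by
    intro s t hst
    have h1 : x⁻¹ * s * x * (s : G)⁻¹ = x⁻¹ * t * x * (t : G)⁻¹ := congrArg Subtype.val hst
    have h2 : (t : G)⁻¹ * s ∈ U ⊓ centralizer {x} := by
      refine ⟨U.mul_mem (U.inv_mem t.2) s.2, mem_centralizer_singleton_iff.2 ?_⟩
      have hts : Commute (t : G)⁻¹ s :=
        (show Commute (t : G) s from mem_centralizer_iff.1 (hU s.2) t t.2).inv_left
      calc (t : G)⁻¹ * s * x = (t : G)⁻¹ * x * (x⁻¹ * s * x * (s : G)⁻¹) * s := by group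
        _ = (t : G)⁻¹ * x * (x⁻¹ * t * x * (t : G)⁻¹) * s := by rw [h1]
        _ = x * ((t : G)⁻¹ * s) := by group
    rw [hfU, mem_bot, inv_mul_eq_one] at h2
    exact Subtype.ext h2.symm
  have hconj : ∀ u : U, ∃ t : U, x * u = t * x * (t : G)⁻¹ := fun u => by
    obtain ⟨t, ht⟩ := Finite.surjective_of_injective hcinj u
    refine ⟨t, ?_⟩
    rw [← ht]
    show x * (x⁻¹ * t * x * (t : G)⁻¹) = t * x * (t : G)⁻¹
    group
  have hyp : ∀ u : U, (x * u : G) ^ p = 1 := fun u => by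
    obtain ⟨t, ht⟩ := hconj u
    rw [ht, conj_pow, hx]; group
  set W' : Subgroup V := W.subgroupOf V with hW'
  have hfix : ∀ (u : U) (v : V), φ (X * ι u) v = v → v ∈ W' := by
    intro u v hv
    obtain ⟨t, ht⟩ := hconj u
    have h1 : (x * u : G) * v * (x * u : G)⁻¹ = v := congrArg Subtype.val hv
    rw [ht] at h1
    have h2 : (t : G)⁻¹ * v * t ∈ V ⊓ centralizer {x} := by
      refine ⟨(mem_normalizer_iff''.1 (hUV t.2) _).1 v.2, mem_centralizer_singleton_iff.2 ?_⟩
      conv_lhs => rw [← h1]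
      group
    have h3 := conj_mem hUW t.2 (hW h2)
    rw [hW', mem_subgroupOf]
    convert h3 using 1
    group
  have hprod : ∀ (u : U) (v : V), ∏ i ∈ Finset.range p, φ ((X * ι u) ^ i) v ∈ W' := by
    intro u v
    refine hfix u _ ?_
    obtain ⟨k, hk⟩ := Nat.exists_eq_succ_of_ne_zero (Fact.out : p.Prime).ne_zero
    have hp1 : (X * ι u) ^ p = 1 := Subtype.ext (by simpa [X, ι] using hyp u)
    rw [map_prod, show (∏ i ∈ Finset.range p, φ (X * ι u) (φ ((X * ι u) ^ i) v)) =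
      ∏ i ∈ Finset.range p, φ ((X * ι u) ^ (i + 1)) v from Finset.prod_congr rfl fun i _ => by
        rw [← MulAut.mul_apply, ← map_mul, ← pow_succ']]
    rw [hk, Finset.prod_range_succ, Finset.prod_range_succ', ← show p = k + 1 from hk, hp1, pow_zero]
  let S : V → V := fun v => ∏ u : U, φ (ι u) v
  have hψ : ∀ i, 0 < i → i < p → ∀ v : V,
      ∏ u : U, φ ((X * ι u) ^ i) v = φ (X ^ i) (S v) := by
    intro i hi hip v
    have hmem : ∀ (j : ℕ) (u : U), (x ^ j)⁻¹ * (x * u : G) ^ j ∈ U := by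
      intro j
      induction j with
      | zero => intro u; simp
      | succ j ih =>
        intro u
        have h1 : (x ^ (j + 1))⁻¹ * (x * u : G) ^ (j + 1) =
            (x⁻¹ * ((x ^ j)⁻¹ * (x * u : G) ^ j) * x) * u := by
          rw [pow_succ, pow_succ]; group
        rw [h1]
        exact U.mul_mem ((mem_normalizer_iff''.1 hxU _).1 (ih u)) u.2
    let ψ : U → U := fun u => ⟨_, hmem i u⟩
    have hψinj : Function.Injective ψ := fun s t hst => by
      have h1 : (x * s : G) ^ i = (x * t : G) ^ i := mul_left_cancel (congrArg Subtype.val hst)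
      exact Subtype.ext (mul_left_cancel (eq_of_pow_eq (hyp s) (hyp t) hi hip h1))
    rw [map_prod, ← Equiv.prod_comp (Equiv.ofBijective ψ (Finite.injective_iff_bijective.1 hψinj))
      (fun u => φ (X ^ i) (φ (ι u) v))]
    refine Finset.prod_congr rfl fun u _ => ?_
    show _ = φ (X ^ i) (φ (ι (ψ u)) v)
    rw [← MulAut.mul_apply, ← map_mul]
    congr 2
    exact Subtype.ext (by simp [X, ι, ψ])
  have hmemW : ∀ v : V, (S v)⁻¹ * v ^ Fintype.card U ∈ W' := by
    intro v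
    obtain ⟨k, hk⟩ := Nat.exists_eq_succ_of_ne_zero (Fact.out : p.Prime).ne_zero
    have h1 : ∏ i ∈ Finset.range p, ∏ u : U, φ ((X * ι u) ^ i) v ∈ W' := by
      rw [Finset.prod_comm]
      exact W'.prod_mem fun u _ => hprod u v
    have h2 : ∏ i ∈ Finset.range p, φ (X ^ i) (S v) ∈ W' := by
      have := hprod 1 (S v)
      rwa [show ι 1 = 1 from Subtype.ext rfl, mul_one] at this
    rw [hk, Finset.prod_range_succ'] at h1 h2
    have h3 : ∀ i ∈ Finset.range k,
        ∏ u : U, φ ((X * ι u) ^ (i + 1)) v = φ (X ^ (i + 1)) (S v) := fun i hi =>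
      hψ _ (Nat.succ_pos i) (by rw [hk]; exact Nat.succ_lt_succ (Finset.mem_range.1 hi)) v
    rw [Finset.prod_congr rfl h3] at h1
    have h4 := W'.mul_mem (W'.inv_mem h2) h1
    simp only [pow_zero, map_one, MulAut.one_apply, Finset.prod_const, Finset.card_univ] at h4
    rwa [mul_inv_rev, mul_assoc, inv_mul_cancel_left] at h4
  have hinv : ∀ v : V, ((S v : V) : G) ∈ V ⊓ centralizer (U : Set G) := by
    intro v
    refine ⟨(S v).2, mem_centralizer_iff.2 fun u₀ hu₀ => ?_⟩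
    have h5 : φ (ι ⟨u₀, hu₀⟩) (S v) = S v := by
      simp only [S, map_prod]
      rw [← Equiv.prod_comp (Equiv.mulLeft (⟨u₀, hu₀⟩ : U)) (fun u => φ (ι u) v)]
      refine Finset.prod_congr rfl fun u _ => ?_
      rw [← MulAut.mul_apply, ← map_mul]
      rfl
    exact mul_inv_eq_iff_eq_mul.1 (congrArg Subtype.val h5)
  have hcop' : (Nat.card V).Coprime (Fintype.card U) := by
    rw [← Nat.card_eq_fintype_card]; exact hcop.symm
  intro w hw
  obtain ⟨v, hv⟩ := (powCoprime hcop').surjective ⟨w, hw⟩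
  rw [powCoprime_apply] at hv
  have h6 := hmemW v
  rw [hv, hW', mem_subgroupOf] at h6
  have h7 : w = ((S v : V) : G) * ((((S v)⁻¹ * ⟨w, hw⟩ : V) : G)) := by simp
  rw [h7]
  exact mul_mem (mem_sup_right (hinv v)) (mem_sup_left h6)

variable {q : ℕ} {A H : Subgroup G}

/-- The key lemma: `L ≤ C(a)` acting on an abelian group `T`. -/
theorem Hyp.key (h : Hyp q A H) (hf : Free A H) {a c : G} (hi : Ind A a c) {L T W : Subgroup G}
    (hLH : L ≤ H) (hLa : L ≤ centralizer {a}) (hAL : A ≤ normalizer (L : Set G))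
    (hT : T ≤ centralizer (T : Set G)) (hcT : c ∈ normalizer (T : Set G))
    (hLT : L ≤ normalizer (T : Set G)) (hWT : W ≤ T) (hLW : L ≤ normalizer (W : Set G))
    (hW : T ⊓ centralizer {c} ≤ W) (hcop : (Nat.card L).Coprime (Nat.card T)) :
    ⁅T, L⁆ ≤ W := by
  haveI := Fact.mk h.prime
  have hLab : L ≤ centralizer (L : Set G) := fun x hx => mem_centralizer_iff.2 fun y hy =>
    h.comm a hi.1 hi.2.1 y ⟨hLH hy, hLa hy⟩ x ⟨hLH hx, hLa hx⟩
  have hfL : L ⊓ centralizer {c} = ⊥ := (eq_bot_iff_forall _).2 fun x hx =>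
    h.eq_one_of_ind hf hi (hLH hx.1) (hLa hx.1) hx.2
  have hle := le_sup_of_fpf hLab hT (h.elem.2 c hi.2.2.1) (hAL hi.2.2.1) hcT hLT hfL hLW hW hcop
  rw [commutator_le]
  intro t ht l hl
  have hn : T ⊓ centralizer (L : Set G) ≤ normalizer (W : Set G) :=
    inf_le_left.trans ((hT.trans (centralizer_le (SetLike.coe_subset_coe.2 hWT))).trans
      (centralizer_le_normalizer _))
  have ht' : t ∈ ((W : Set G) * ((T ⊓ centralizer (L : Set G) : Subgroup G) : Set G)) := by
    rw [← coe_mul_of_right_le_normalizer_left _ _ hn]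
    exact hle ht
  obtain ⟨w, hw, k, hk, rfl⟩ := ht'
  have e : ⁅w * k, l⁆ = w * (l * w⁻¹ * l⁻¹) := by
    have hkl : l * k = k * l := mem_centralizer_iff.1 hk.2 l hl
    have hkl' : k * l * k⁻¹ = l := by rw [← hkl, mul_inv_cancel_right]
    calc ⁅w * k, l⁆ = w * (k * l * k⁻¹) * w⁻¹ * l⁻¹ := by rw [commutatorElement_def]; group
      _ = _ := by rw [hkl']; group
  rw [e]
  exact W.mul_mem hw (conj_mem hLW hl (W.inv_mem hw))

/-- An abelian subgroup of `C(c)` normalizing a subgroup of `C(a)` modulo `C` centralizes it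
modulo `C`. -/
theorem Hyp.commute_mod (h : Hyp q A H) (hf : Free A H) {a c : G} (hi : Ind A a c)
    {K C : Subgroup G} (hKH : K ≤ H) (hKc : K ≤ centralizer {c})
    (hAK : A ≤ normalizer (K : Set G)) (haC : a ∈ normalizer (C : Set G))
    (hKC : K ≤ normalizer (C : Set G)) {z : G} (hz : z ∈ normalizer (C : Set G))
    (hza : a * z * a⁻¹ * z⁻¹ ∈ C)
    (hKz : ∀ k ∈ K, a * (k * z * k⁻¹) * a⁻¹ * (k * z * k⁻¹)⁻¹ ∈ C) :
    ∀ k ∈ K, k * z * k⁻¹ * z⁻¹ ∈ C := by
  set N := normalizer (C : Set G)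
  set π : N →* N ⧸ C.subgroupOf N := QuotientGroup.mk' _
  have hker : ∀ y : N, π y = 1 ↔ (y : G) ∈ C := proj_eq_one C
  -- `k ↦ k⁻¹ a k a⁻¹` is onto `K`
  let f : K → K := fun k => ⟨(k : G)⁻¹ * (a * k * a⁻¹),
    K.mul_mem (K.inv_mem k.2) ((mem_normalizer_iff.1 (hAK hi.1) _).1 k.2)⟩
  have hinj : Function.Injective f := by
    intro s t hst
    have h1 : (s : G)⁻¹ * (a * s * a⁻¹) = (t : G)⁻¹ * (a * t * a⁻¹) := congrArg Subtype.val hst
    have h2 : (t : G) * (s : G)⁻¹ = 1 := by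
      refine h.eq_one_of_ind hf hi (hKH (K.mul_mem t.2 (K.inv_mem s.2))) ?_
        (hKc (K.mul_mem t.2 (K.inv_mem s.2)))
      refine mem_centralizer_singleton_iff.2 ?_
      calc (t : G) * (s : G)⁻¹ * a = t * ((s : G)⁻¹ * (a * s * a⁻¹)) * a * (s : G)⁻¹ := by group
        _ = t * ((t : G)⁻¹ * (a * t * a⁻¹)) * a * (s : G)⁻¹ := by rw [h1]
        _ = a * (t * (s : G)⁻¹) := by group
    exact Subtype.ext (mul_inv_eq_one.1 h2).symm
  intro k hk
  obtain ⟨k₀, hk₀⟩ := Finite.surjective_of_injective hinj ⟨k, hk⟩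
  have hk' : (k₀ : G)⁻¹ * (a * k₀ * a⁻¹) = k := congrArg Subtype.val hk₀
  set za : N := ⟨a, haC⟩
  set zk : N := ⟨k₀, hKC k₀.2⟩
  set zz : N := ⟨z, hz⟩
  have e1 : π za * π zz = π zz * π za := by
    rw [← map_mul, ← map_mul, ← mul_inv_eq_one, ← map_inv, ← map_mul, hker]
    simpa [za, zz, mul_assoc] using hza
  have e2 : π za * (π zk * π zz * (π zk)⁻¹) = π zk * π zz * (π zk)⁻¹ * π za := by
    rw [← map_inv, ← map_mul, ← map_mul, ← map_mul, ← map_mul, ← mul_inv_eq_one, ← map_inv,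
      ← map_mul, hker]
    simpa [za, zk, zz, mul_assoc] using hKz k₀ k₀.2
  refine (hker (⟨k, hKC hk⟩ * zz * (⟨k, hKC hk⟩ : N)⁻¹ * zz⁻¹)).1 ?_
  rw [show (⟨k, hKC hk⟩ : N) = zk⁻¹ * (za * zk * za⁻¹) from Subtype.ext hk'.symm]
  simp only [map_mul, map_inv]
  set α := π za
  set κ := π zk
  set ζ := π zz
  have e1' : α⁻¹ * ζ * α = ζ := by rw [mul_assoc, ← e1, inv_mul_cancel_left]
  have e2' : α * (κ * ζ * κ⁻¹) * α⁻¹ = κ * ζ * κ⁻¹ := by rw [e2, mul_inv_cancel_right]
  calc κ⁻¹ * (α * κ * α⁻¹) * ζ * (κ⁻¹ * (α * κ * α⁻¹))⁻¹ * ζ⁻¹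
      = κ⁻¹ * (α * (κ * (α⁻¹ * ζ * α) * κ⁻¹) * α⁻¹) * κ * ζ⁻¹ := by group
    _ = 1 := by rw [e1', e2']; group

end CfsgLib.AbFix
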