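import Cfsg.Agent.AbFix.Key

/-!
The key lemma for `p`-groups, through the Frattini quotient.
-/

set_option autoImplicit false
set_option linter.unusedSectionVars false
set_option linter.style.haveILetI false
set_option linter.deprecated false

namespace CfsgLib.AbFix

open Subgroup Pointwise CfsgLib.SZ CfsgLib.SFT
open scoped commutatorElement

universe u

variable {G : Type u} [Group G] [Finite G]

/-- An abelian group with a fixed-point-free element of prime order that centralizes the fixed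
points of this element on a coprime `r`-group centralizes that group. -/
theorem abelian_centralizes_pgroup {p r : ℕ} [Fact p.Prime] [Fact r.Prime] (hpr : r ≠ p)
    {U T : Subgroup G} {x : G} (hU : U ≤ centralizer (U : Set G)) (hT : IsPGroup r T)
    (hx : x ^ p = 1) (hxU : x ∈ normalizer (U : Set G)) (hxT : x ∈ normalizer (T : Set G))
    (hUT : U ≤ normalizer (T : Set G)) (hfU : U ⊓ centralizer {x} = ⊥)
    (hfT : T ⊓ centralizer {x} ≤ centralizer (U : Set G)) (hcop : (Nat.card U).Coprime r) :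
    U ≤ centralizer (T : Set G) := by
  set Φ := (frattini T).map T.subtype with hΦ
  have hΦT : Φ ≤ T := map_subtype_le _
  set N := normalizer (T : Set G)
  have hΦn : N ≤ normalizer (Φ : Set G) :=
    CfsgLib.OddLocal.UTool.normalizer_le_normalizer_map T _ frattini_characteristic
  haveI hΦN : (Φ.subgroupOf N).Normal :=
    (normal_subgroupOf_iff_le_normalizer (hΦT.trans le_normalizer)).2 hΦn
  set f : N →* N ⧸ Φ.subgroupOf N := QuotientGroup.mk' (Φ.subgroupOf N) with hf
  have hker : ∀ y : N, f y = 1 ↔ (y : G) ∈ Φ := fun y => by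
    rw [hf, QuotientGroup.mk'_apply, QuotientGroup.eq_one_iff, mem_subgroupOf]
  haveI : Group.IsNilpotent T := hT.isNilpotent
  obtain ⟨hcm, hpw⟩ := CfsgLib.PGroupBasic.commutator_pow_le_frattini hT
  set V := (T.subgroupOf N).map f with hV
  set U' := (U.subgroupOf N).map f
  have hxp : IsPGroup p (zpowers x) := fun a => ⟨1, by
    obtain ⟨i, hi⟩ := mem_zpowers_iff.1 a.2
    refine Subtype.ext ?_
    rw [SubmonoidClass.coe_pow, pow_one, ← hi, ← zpow_natCast, ← zpow_mul, mul_comm, zpow_mul,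
      zpow_natCast, hx, one_zpow]
    rfl⟩
  have hcx : (Nat.card (zpowers x)).Coprime (Nat.card T) := coprime_of_pgroup_ne hpr.symm hxp hT
  have hRT : zpowers x ≤ normalizer (T : Set G) := zpowers_le.2 hxT
  set X : N := ⟨x, hxT⟩
  have hfV : V ⊓ centralizer {f X} ≤ centralizer (U' : Set (N ⧸ Φ.subgroupOf N)) := by
    rintro _ ⟨⟨v, hv, rfl⟩, hvc⟩
    obtain ⟨c, hc, hcv⟩ := CfsgLib.CoprimeAct.exists_centralizing_mem_coset hRT hcx hΦT
      (hRT.trans hΦn) (Or.inr (isSolvable_of_le hΦT (by haveI := hT.isNilpotent; infer_instance)))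
      (show (v : G) ∈ T from hv)
      fun a ha => by
        obtain ⟨i, rfl⟩ := mem_zpowers_iff.1 ha
        have hcm' : Commute (f X ^ i) (f v) := (show Commute (f X) (f v) from
          (mem_centralizer_singleton_iff.1 hvc).symm).zpow_left i
        have h1 : f (v⁻¹ * (X ^ i * v * (X ^ i)⁻¹)) = 1 := by
          rw [map_mul, map_inv, map_mul, map_mul, map_inv, map_zpow, hcm'.eq, mul_inv_cancel_right,
            inv_mul_cancel]
        simpa [X] using (hker _).1 h1
    have h2 : c ∈ centralizer (U : Set G) := hfT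
      ⟨hc.1, mem_centralizer_singleton_iff.2 (mem_centralizer_iff.1 hc.2 x (mem_zpowers x)).symm⟩
    have h3 : f v = f ⟨c, le_normalizer hc.1⟩ := by
      refine QuotientGroup.eq.2 (mem_subgroupOf.2 ?_)
      simpa using hcv
    rw [h3]
    refine mem_centralizer_iff.2 ?_
    rintro _ ⟨u, hu, rfl⟩
    rw [← map_mul, ← map_mul]
    exact congrArg f (Subtype.ext (mem_centralizer_iff.1 h2 u hu))
  have hUΦ : ∀ u ∈ U, u ∈ Φ → u = 1 := fun u hu hu' =>
    (eq_bot_iff_forall _).1 (inf_eq_bot_of_coprime (coprime_of_pgroup hT hcop).symm) u ⟨hu, hΦT hu'⟩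
  have hfU' : U' ⊓ centralizer {f X} = ⊥ := by
    refine (eq_bot_iff_forall _).2 ?_
    rintro _ ⟨⟨u, hu, rfl⟩, huc⟩
    have hc : f X * f u = f u * f X := (mem_centralizer_singleton_iff.1 huc).symm
    have h1 : f (X * u * X⁻¹ * u⁻¹) = 1 := by
      rw [map_mul, map_mul, map_mul, map_inv, map_inv, hc]; group
    have hmem : x * (u : G) * x⁻¹ * (u : G)⁻¹ ∈ U :=
      U.mul_mem ((mem_normalizer_iff.1 hxU _).1 hu) (U.inv_mem hu)
    have h2 : x * (u : G) * x⁻¹ * (u : G)⁻¹ = 1 :=
      hUΦ _ hmem (by simpa [X] using (hker _).1 h1)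
    have h3 : (u : G) ∈ U ⊓ centralizer {x} := ⟨hu, mem_centralizer_singleton_iff.2
      (mul_inv_eq_iff_eq_mul.1 (mul_inv_eq_one.1 h2)).symm⟩
    rw [hfU, mem_bot] at h3
    rw [show u = 1 from Subtype.ext h3, map_one]
  have habV : V ≤ centralizer (V : Set (N ⧸ Φ.subgroupOf N)) := by
    rintro _ ⟨a, ha, rfl⟩
    refine mem_centralizer_iff.2 ?_
    rintro _ ⟨b, hb, rfl⟩
    refine commutatorElement_eq_one_iff_mul_comm.1 ?_
    rw [← map_commutatorElement, hker]
    exact ⟨⁅(⟨b, hb⟩ : T), ⟨a, ha⟩⁆, hcm (commutator_mem_commutator (mem_top _) (mem_top _)), rfl⟩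
  have habU : U' ≤ centralizer (U' : Set (N ⧸ Φ.subgroupOf N)) := by
    rintro _ ⟨a, ha, rfl⟩
    refine mem_centralizer_iff.2 ?_
    rintro _ ⟨b, hb, rfl⟩
    rw [← map_mul, ← map_mul]
    exact congrArg f (Subtype.ext (mem_centralizer_iff.1 (hU ha) b hb))
  have hxn : ∀ H : Subgroup G, x ∈ normalizer (H : Set G) →
      f X ∈ normalizer ((H.subgroupOf N).map f : Set (N ⧸ Φ.subgroupOf N)) := fun H hH =>
    le_normalizer_map f ⟨X, mem_normalizer_iff.2 fun t => by
      simpa [mem_subgroupOf, X] using mem_normalizer_iff.1 hH (t : G), rfl⟩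
  haveI : V.Normal := (normal_in_normalizer (H := T)).map f (QuotientGroup.mk'_surjective _)
  have hmain := le_sup_of_fpf (p := p) (x := f X)
    (W := V ⊓ centralizer (U' : Set (N ⧸ Φ.subgroupOf N))) habU habV
    (by rw [← map_pow, show X ^ p = 1 from Subtype.ext (by simpa [X] using hx), map_one])
    (hxn U hxU) (hxn T hxT) (by rw [normalizer_eq_top]; exact le_top) hfU'
    (le_normalizer_inf (by rw [normalizer_eq_top]; exact le_top)
      (le_normalizer.trans (normalizer_le_normalizer_centralizer _)))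
    (le_inf inf_le_left hfV)
    (by
      obtain ⟨k, hk⟩ := IsPGroup.iff_card.1 ((hT.comap_subtype (K := N)).map f)
      rw [show Nat.card V = r ^ k from hk]
      refine (hcop.coprime_dvd_left ?_).pow_right k
      exact (card_map_dvd _ f).trans (by rw [Nat.card_congr (subgroupOfEquivOfLe hUT).toEquiv]))
  rw [sup_idem] at hmain
  refine CfsgLib.CoprimeAct.trivial_on_frattini_quotient hUT ?_ fun a ha k hk => ?_
  · obtain ⟨k, hk⟩ := IsPGroup.iff_card.1 hT
    exact (hcop.pow_right k).coprime_dvd_right (hk ▸ card_subgroup_dvd_card (frattini T))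
  · set a' : N := ⟨a, hUT ha⟩
    set k' : N := ⟨k, le_normalizer hk⟩
    have hc := mem_centralizer_iff.1 ((hmain ⟨k', hk, rfl⟩).2) (f a') ⟨a', ha, rfl⟩
    refine (hker (a' * k' * a'⁻¹ * k'⁻¹)).1 ?_
    rw [map_mul, map_mul, map_mul, map_inv, map_inv, hc]
    group

variable {q : ℕ} {A H : Subgroup G}

/-- The key lemma for an `r`-group `T`. -/
theorem Hyp.key_pgroup (h : Hyp q A H) (hf : Free A H) {a c : G} (hi : Ind A a c) {r : ℕ}
    [Fact r.Prime] {L T : Subgroup G} (hLH : L ≤ H) (hLa : L ≤ centralizer {a})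
    (hAL : A ≤ normalizer (L : Set G)) (hTH : T ≤ H) (hT : IsPGroup r T)
    (hcT : c ∈ normalizer (T : Set G)) (hLT : L ≤ normalizer (T : Set G))
    (hfix : T ⊓ centralizer {c} ≤ centralizer (L : Set G)) (hcop : (Nat.card L).Coprime r) :
    L ≤ centralizer (T : Set G) := by
  haveI := Fact.mk h.prime
  by_cases hrq : r = q
  · subst hrq
    have hT1 : T = ⊥ := by
      obtain ⟨k, hk⟩ := IsPGroup.iff_card.1 hT
      rcases Nat.eq_zero_or_pos k with rfl | hk0
      · exact eq_bot_of_card_eq _ (by rw [hk, pow_zero])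
      · exact absurd ((hk ▸ dvd_pow_self r hk0.ne').trans (card_dvd_of_le hTH)) h.cop
    intro x _
    exact mem_centralizer_iff.2 fun y hy => by rw [hT1] at hy; simp [mem_bot.1 hy]
  exact abelian_centralizes_pgroup hrq (fun x hx => mem_centralizer_iff.2 fun y hy =>
      h.comm a hi.1 hi.2.1 y ⟨hLH hy, hLa hy⟩ x ⟨hLH hx, hLa hx⟩)
    hT (h.elem.2 c hi.2.2.1) (hAL hi.2.2.1) hcT hLT
    ((eq_bot_iff_forall _).2 fun x hx => h.eq_one_of_ind hf hi (hLH hx.1) (hLa hx.1) hx.2)
    hfix hcop

end CfsgLib.AbFix
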