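import Cfsg.Agent.AbFix.Pair
import Cfsg.Agent.Solvable.Criteria

/-!
An elementary abelian group of order `q²` acting coprimely with abelian centralizers forces
solvability (Martineau–Shumyatsky; no classification needed).
-/

set_option autoImplicit false
set_option linter.unusedSectionVars false
set_option linter.style.haveILetI false
set_option linter.deprecated false

namespace CfsgLib.AbFix

open Subgroup Pointwise CfsgLib.SZ CfsgLib.SFT
open scoped commutatorElement IsMulCommutative

universe u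

variable {G : Type u} [Group G] [Finite G]

theorem pi2_comm (p r : ℕ) (A H : Subgroup G) : Pi2 p r A H = Pi2 r p A H := by
  funext U
  simp only [Pi2, Set.pair_comm p r]

theorem mem_mul_of_card_le {P R M : Subgroup G} (hP : P ≤ M) (hR : R ≤ M) (hd : P ⊓ R = ⊥)
    (hcard : Nat.card M ≤ Nat.card P * Nat.card R) : (P : Set G) * (R : Set G) = (M : Set G) := by
  refine Set.Subset.antisymm ?_ fun x hx => ?_
  · rintro _ ⟨a, ha, b, hb, rfl⟩
    exact M.mul_mem (hP ha) (hR hb)
  · let f : P × R → M := fun z => ⟨z.1 * z.2, M.mul_mem (hP z.1.2) (hR z.2.2)⟩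
    have hinj : Function.Injective f := fun z w e =>
      mul_injective_of_disjoint (disjoint_iff.2 hd) (congrArg Subtype.val e)
    have hle : Nat.card (P × R) ≤ Nat.card M := Nat.card_le_card_of_injective f hinj
    rw [Nat.card_prod] at hle
    obtain ⟨z, hz⟩ := ((Nat.bijective_iff_injective_and_card f).2
      ⟨hinj, by rw [Nat.card_prod]; omega⟩).2 ⟨x, hx⟩
    exact ⟨z.1, z.1.2, z.2, z.2.2, congrArg Subtype.val hz⟩

namespace Crit

variable {q : ℕ} {A H : Subgroup G} (h : Crit q A H) {p r : ℕ} [hp : Fact p.Prime]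
  [hr : Fact r.Prime]
include h

theorem exists_maximal {U : Subgroup G} (hU : Pi2 p r A H U) :
    ∃ M, U ≤ M ∧ Maximal (Pi2 p r A H) M :=
  exists_maximal_ge_of_wellFoundedGT (Pi2 p r A H) U hU

theorem dvd_of_syl_ne_bot (hR : syl r A H ≠ ⊥) : r ∣ Nat.card H := by
  by_contra hd
  refine hR (eq_bot_of_card_eq _ ?_)
  rw [h.hyp.card_syl h.free r le_rfl h.hyp.norm, Nat.factorization_eq_zero_of_not_dvd hd, pow_zero]

theorem core_or (hpr : p ≠ r)
    (hne : (syl p A H : Set G) * (syl r A H : Set G) ≠ (syl r A H : Set G) * (syl p A H : Set G))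
    {M : Subgroup G} (hM : Maximal (Pi2 p r A H) M) : oc p M = ⊥ ∨ oc r M = ⊥ := by
  by_contra hc
  push Not at hc
  have hR := h.sylow_le hM hpr hc.2 hc.1
  have hP := h.sylow_le (p := r) (r := p) (pi2_comm p r A H ▸ hM) hpr.symm hc.1 hc.2
  have hd : syl p A H ⊓ syl r A H = ⊥ := inf_eq_bot_of_coprime
    (coprime_of_pgroup_ne hpr (h.isPGroup_syl p) (h.isPGroup_syl r))
  have hcard : Nat.card M ≤ Nat.card (syl p A H) * Nat.card (syl r A H) := by
    refine Nat.le_of_dvd (Nat.mul_pos Nat.card_pos Nat.card_pos) ?_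
    rw [h.hyp.card_syl h.free p le_rfl h.hyp.norm, h.hyp.card_syl h.free r le_rfl h.hyp.norm]
    refine (Nat.factorization_le_iff_dvd Nat.card_pos.ne' (Nat.mul_ne_zero
      (pow_ne_zero _ hp.out.ne_zero) (pow_ne_zero _ hr.out.ne_zero))).1 fun s => ?_
    rw [Nat.factorization_mul (pow_ne_zero _ hp.out.ne_zero) (pow_ne_zero _ hr.out.ne_zero),
      Finsupp.add_apply, hp.out.factorization_pow, hr.out.factorization_pow, Finsupp.single_apply,
      Finsupp.single_apply]
    have hle := (Nat.factorization_le_iff_dvd Nat.card_pos.ne' Nat.card_pos.ne').2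
      (card_dvd_of_le hM.1.1) s
    by_cases hps : p = s
    · subst hps
      rw [if_pos rfl]
      exact hle.trans (Nat.le_add_right _ _)
    · by_cases hrs : r = s
      · subst hrs
        rw [if_pos rfl]
        exact hle.trans (Nat.le_add_left _ _)
      · by_cases hs : s.Prime
        · rw [Nat.factorization_eq_zero_of_not_dvd fun hd' => by
            rcases hM.1.2.2 s hs hd' with e | e
            exacts [hps e.symm, hrs e.symm]]
          exact Nat.zero_le _
        · rw [Nat.factorization_eq_zero_of_not_prime _ hs]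
          exact Nat.zero_le _
  exact hne ((mem_mul_of_card_le hP hR hd hcard).trans (mem_mul_of_card_le hR hP
    (by rw [inf_comm]; exact hd) (by rwa [mul_comm])).symm)

theorem syl_normal_of_core_eq_bot (hP0 : syl p A H ≠ ⊥) {M : Subgroup G}
    (hM : Maximal (Pi2 p r A H) M) (hrM : oc r M = ⊥) :
    syl p A H ≤ M ∧ M ≤ normalizer (syl p A H : Set G) := by
  set P := syl p A H
  have hAP := h.inv_syl p
  have hPp := h.isPGroup_syl p
  have hPH : P ≤ H := syl_le _ _ _
  have hM' : Maximal (Pi2 r p A H) M := pi2_comm p r A H ▸ hM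
  have h1 : P ⊓ M ≤ oc p M := h.le_oc_of_maximal (p := r) (r := p) hM' inf_le_right
    (hPp.to_le inf_le_left) fun x _ => mem_centralizer_iff.2 fun y hy => by
      rw [hrM] at hy; simp [mem_bot.1 hy]
  have hAO : A ≤ normalizer (oc p M : Set G) := le_normalizer_oc_of_le p hM.1.2.1
  have h2 : oc p M ≤ P ⊓ M :=
    le_inf (le_syl ((oc_le p M).trans hM.1.1) (isPGroup_oc p M) hAO) (oc_le p M)
  have he : P ⊓ M = oc p M := le_antisymm h1 h2
  have hne : oc p M ≠ ⊥ := by
    intro hb
    have hM1 : M ≠ ⊥ := fun e => hP0 (le_bot_iff.1 (e ▸ hM.2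
      ⟨hPH, hAP, isPiG_of_pgroup (Or.inl rfl) hPp⟩ (e.le.trans bot_le)))
    obtain ⟨t, ht, htn⟩ := exists_oc_ne_bot (h.solvable_maximal hM) hM1
    haveI := Fact.mk ht
    rcases hM.1.2.2 t ht (oc_ne_bot_imp_dvd htn) with rfl | rfl
    exacts [htn hb, htn hrM]
  have hPe : oc p M = P := by
    refine eq_of_normalizer_le (h2.trans inf_le_left) hPp ?_
    refine le_trans (le_inf inf_le_left ?_) he.le
    exact h.le_of_maximal hM ((oc_le p M).trans hM.1.1) hne hAO
      (isSolvable_of_le (oc_le p M) (h.solvable_maximal hM)) (le_normalizer_oc p M)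
      ⟨inf_le_left.trans hPH, le_normalizer_inf hAP (hAO.trans le_normalizer),
        isPiG_of_pgroup (Or.inl rfl) (hPp.to_le inf_le_left)⟩ inf_le_right
  rw [← hPe]
  exact ⟨oc_le p M, le_normalizer_oc p M⟩

variable (hpr : p ≠ r)
  (hne : (syl p A H : Set G) * (syl r A H : Set G) ≠ (syl r A H : Set G) * (syl p A H : Set G))
include hpr hne

theorem syl_ne : syl p A H ≠ ⊥ ∧ syl r A H ≠ ⊥ := by
  refine ⟨fun e => hne ?_, fun e => hne ?_⟩
  · rw [e]; simp
  · rw [e]; simp

theorem le_normalizer_syl {U : Subgroup G} (hU : Pi2 p r A H U) :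
    U ≤ normalizer (syl p A H : Set G) ∨ U ≤ normalizer (syl r A H : Set G) := by
  obtain ⟨M, hUM, hM⟩ := h.exists_maximal hU
  rcases h.core_or hpr hne hM with hb | hb
  · exact Or.inr (hUM.trans (h.syl_normal_of_core_eq_bot (p := r) (r := p)
      (h.syl_ne hpr hne).2 (pi2_comm p r A H ▸ hM) hb).2)
  · exact Or.inl (hUM.trans (h.syl_normal_of_core_eq_bot (h.syl_ne hpr hne).1 hM hb).2)

theorem components {c : G} (hc : c ∈ A) (hc1 : c ≠ 1) :
    syl p A H ⊓ centralizer {c} ≤ normalizer (syl r A H : Set G) ∨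
      syl r A H ⊓ centralizer {c} ≤ normalizer (syl p A H : Set G) := by
  set P := syl p A H ⊓ centralizer {c}
  set R := syl r A H ⊓ centralizer {c}
  have hPH : P ≤ H := inf_le_left.trans (syl_le _ _ _)
  have hRH : R ≤ H := inf_le_left.trans (syl_le _ _ _)
  have hPR : P ≤ normalizer (R : Set G) := le_trans (fun x hx => mem_centralizer_iff.2 fun y hy =>
    h.hyp.comm c hc hc1 y ⟨hRH hy, hy.2⟩ x ⟨hPH hx, hx.2⟩) (centralizer_le_normalizer _)
  rcases h.le_normalizer_syl hpr hne (U := P ⊔ R) ⟨sup_le hPH hRH,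
    le_normalizer_sup (h.hyp.inv_cx (h.inv_syl p) hc) (h.hyp.inv_cx (h.inv_syl r) hc),
    isPiG_sup hPR (isPiG_of_pgroup (Or.inl rfl) ((h.isPGroup_syl p).to_le inf_le_left))
      (isPiG_of_pgroup (Or.inr rfl) ((h.isPGroup_syl r).to_le inf_le_left))⟩ with hh | hh
  · exact Or.inr (le_sup_right.trans hh)
  · exact Or.inl (le_sup_left.trans hh)

theorem inter_eq_bot : syl r A H ⊓ normalizer (syl p A H : Set G) = ⊥ := by
  set P := syl p A H
  set R := syl r A H
  set L := R ⊓ normalizer (P : Set G)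
  set K := P ⊓ normalizer (R : Set G)
  have hPH : P ≤ H := syl_le _ _ _
  have hRH : R ≤ H := syl_le _ _ _
  have hAP := h.inv_syl p
  have hAR := h.inv_syl r
  have hPp := h.isPGroup_syl p
  have hRr := h.isPGroup_syl r
  have hAL : A ≤ normalizer (L : Set G) := le_normalizer_inf hAR (hAP.trans le_normalizer)
  have hKL : K ≤ centralizer (L : Set G) := by
    refine commute_of_coprime
      (le_normalizer_inf inf_le_right ((inf_le_left.trans le_normalizer).trans le_normalizer))
      (le_normalizer_inf inf_le_right ((inf_le_left.trans le_normalizer).trans le_normalizer))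
      (coprime_of_pgroup_ne hpr (hPp.to_le inf_le_left) (hRr.to_le inf_le_left))
  have hfaith : ∀ U ≤ L, A ≤ normalizer (U : Set G) → U ≤ centralizer (P : Set G) → U = ⊥ := by
    intro U hU hAU hUP
    have hUr := hRr.to_le (hU.trans inf_le_left)
    obtain ⟨M, hle, hM⟩ := h.exists_maximal (p := p) (r := r) (U := U ⊔ P)
      ⟨sup_le (hU.trans (inf_le_left.trans hRH)) hPH, le_normalizer_sup hAU hAP,
        isPiG_sup (hUP.trans (centralizer_le_normalizer _))
          (isPiG_of_pgroup (Or.inr rfl) hUr) (isPiG_of_pgroup (Or.inl rfl) hPp)⟩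
    rcases h.core_or hpr hne hM with hb | hb
    · refine absurd (perm_of_le_normalizer ?_) hne
      exact le_sup_right.trans (hle.trans (h.syl_normal_of_core_eq_bot (p := r) (r := p)
        (h.syl_ne hpr hne).2 (pi2_comm p r A H ▸ hM) hb).2)
    · refine le_bot_iff.1 (hb ▸ h.le_oc_of_maximal hM (le_sup_left.trans hle) hUr
        (hUP.trans (centralizer_le (SetLike.coe_subset_coe.2 ?_))))
      exact le_syl ((oc_le p M).trans hM.1.1) (isPGroup_oc p M)
        (le_normalizer_oc_of_le p hM.1.2.1)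
  have hspread : ∀ {a c : G}, Ind A a c → L ⊓ centralizer {a} ≠ ⊥ →
      R ⊓ centralizer {c} ≤ L := by
    intro a c hac hLa
    rcases h.components hpr hne hac.2.2.1 hac.2.2.2.1 with hh | hh
    · exfalso
      refine hLa (hfaith _ inf_le_left (h.hyp.inv_cx hAL hac.1) ?_)
      refine h.hyp.key_pgroup h.free hac (inf_le_left.trans (inf_le_left.trans hRH)) inf_le_right
        (h.hyp.inv_cx hAL hac.1) hPH hPp (hAP hac.2.2.1) (inf_le_left.trans inf_le_right) ?_
        (pgroup_coprime_prime hpr.symm (hRr.to_le (inf_le_left.trans inf_le_left)))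
      exact (le_inf inf_le_left hh : P ⊓ centralizer {c} ≤ K).trans
        (hKL.trans (centralizer_le (SetLike.coe_subset_coe.2 inf_le_left)))
    · exact le_inf inf_le_left hh
  by_contra hL
  obtain ⟨a, ha, ha1, hLa⟩ : ∃ a ∈ A, a ≠ 1 ∧ L ⊓ centralizer {a} ≠ ⊥ := by
    by_contra hc
    push Not at hc
    exact hL (le_bot_iff.1 (h.hyp.gen (inf_le_left.trans hRH) hAL fun a ha ha1 =>
      (hc a ha ha1).le))
  by_cases hsec : ∃ c, Ind A a c ∧ L ⊓ centralizer {c} ≠ ⊥
  · obtain ⟨c, hac, hLc⟩ := hsec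
    have hRL : R ≤ L := h.hyp.gen hRH hAR fun d hd hd1 => by
      by_cases had : Ind A a d
      · exact hspread had hLa
      · rw [h.hyp.centralizer_eq_of_dep ha ha1 hd hd1 had]
        exact hspread (h.hyp.ind_symm hac) hLc
    exact hne (perm_of_le_normalizer (hRL.trans inf_le_right)).symm
  · push Not at hsec
    refine h.not_le_centralizer r (h.dvd_of_syl_ne_bot (h.syl_ne hpr hne).2) ha ha1 ?_
    refine h.hyp.gen hRH hAR fun d hd hd1 => ?_
    by_cases had : Ind A a d
    · exact ((le_inf (hspread had hLa) inf_le_right).trans (hsec d had).le).trans bot_le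
    · exact inf_le_right.trans (h.hyp.centralizer_eq_of_dep ha ha1 hd hd1 had).le

theorem not_odd : p = 2 := by
  by_contra hp2
  obtain ⟨e, he, he1, hcomp⟩ :=
    h.exists_component p hp2 (h.dvd_of_syl_ne_bot (h.syl_ne hpr hne).1)
  refine h.not_le_centralizer r (h.dvd_of_syl_ne_bot (h.syl_ne hpr hne).2) he he1 ?_
  refine h.hyp.gen (syl_le _ _ _) (h.inv_syl r) fun d hd hd1 => ?_
  by_cases hed : Ind A e d
  · rcases h.components hpr hne hd hd1 with hh | hh
    · exact absurd (le_bot_iff.1 ((le_inf inf_le_left hh).trans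
        (h.inter_eq_bot (p := r) (r := p) hpr.symm (Ne.symm hne)).le)) (hcomp d hed)
    · exact ((le_inf inf_le_left hh).trans (h.inter_eq_bot hpr hne).le).trans bot_le
  · exact inf_le_right.trans (h.hyp.centralizer_eq_of_dep he he1 hd hd1 hed).le

end Crit

theorem Crit.false {q : ℕ} {A H : Subgroup G} (h : Crit q A H) : False := by
  classical
  have hex : ∀ p : Nat.Primes, ∃ R : Sylow (p : ℕ) H,
      syl p A H = (R : Subgroup H).map H.subtype := fun p => by
    haveI := Fact.mk p.2
    obtain ⟨R, hR, -⟩ := h.hyp.exists_syl h.free p le_rfl h.hyp.norm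
    exact ⟨R, hR⟩
  choose S hS using hex
  refine h.notSolv (CfsgLib.Criteria.solvable_of_system S fun p r => ?_)
  by_cases hpr : p = r
  · rw [hpr]
  · haveI := Fact.mk p.2
    haveI := Fact.mk r.2
    have hne' : (p : ℕ) ≠ r := fun e => hpr (Subtype.ext e)
    refine Set.image_injective.2 H.subtype_injective ?_
    have e : ∀ t : Nat.Primes, H.subtype '' (S t : Set H) = (syl t A H : Set G) := fun t => by
      rw [hS t]; rfl
    rw [Set.image_mul, Set.image_mul, e, e]
    by_contra hne
    exact hne' ((h.not_odd hne' hne).trans (h.not_odd hne'.symm (Ne.symm hne)).symm)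

/-- Abelian centralizers of a coprime `(q, q)`-group force solvability. -/
theorem isSolvable_of_hyp : ∀ (n : ℕ) (G : Type u) [Group G] [Finite G] (q : ℕ)
    (A H : Subgroup G), Nat.card H = n → Hyp q A H → Group.IsSolvable H := by
  intro n
  induction n using Nat.strong_induction_on with
  | _ n ih =>
  intro G _ _ q A H hn h
  have hquot : ∀ U ≤ H, U ≠ ⊥ → A ≤ normalizer (U : Set G) → H ≤ normalizer (U : Set G) →
      Group.IsSolvable U → Group.IsSolvable H := fun U hUH hU1 hAU hHU hUs =>
    isSolvable_of_im h hUH hAU hHU hUs (ih _ (hn ▸ card_im_lt h hUH hAU hHU hU1) _ q _ _ rfl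
      (hyp_im h hUH hAU hHU))
  have hsub : ∀ U ≤ H, U ≠ H → A ≤ normalizer (U : Set G) → Group.IsSolvable U :=
    fun U hUH hne hAU => ih _ (hn ▸ lt_of_le_of_ne (Subgroup.card_le_of_le hUH)
      fun e => hne (CfsgLib.Solvable.eq_of_le_of_card_le hUH e.ge)) _ q A U rfl (h.mono hUH hAU)
  by_contra hns
  by_cases hf : Free A H
  · refine Crit.false (q := q) (A := A) (H := H) ⟨h, hf, hns, hsub, fun U hUH hAU hHU => ?_⟩
    by_cases hU : U = ⊥
    · exact Or.inl hU
    · by_contra hc
      push Not at hc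
      exact hns (hquot U hUH hU hAU hHU (hsub U hUH hc.2 hAU))
  · -- the common fixed points are central
    set U := H ⊓ centralizer (A : Set G)
    have hAU : A ≤ normalizer (U : Set G) := le_normalizer_inf h.norm (inv_centralizer le_normalizer)
    have hHc : H ≤ centralizer (U : Set G) := by
      refine h.gen le_rfl h.norm fun a ha ha1 x hx => mem_centralizer_iff.2 fun y hy => ?_
      exact h.comm a ha ha1 y ⟨hy.1, mem_centralizer_singleton_iff.2
        (mem_centralizer_iff.1 hy.2 a ha).symm⟩ x hx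
    have hUab : IsMulCommutative U :=
      ⟨⟨fun a b => Subtype.ext (mem_centralizer_iff.1 (hHc b.2.1) a a.2)⟩⟩
    haveI := hUab
    exact hns (hquot U inf_le_left hf hAU (hHc.trans (centralizer_le_normalizer _)) inferInstance)

end CfsgLib.AbFix
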