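import Cfsg.Agent.AbFix.Support
import Cfsg.Agent.S0144

/-!
A minimal nonsolvable group with a free action of type `(q, q)` with abelian centralizers: two
invariant Sylow subgroups always permute.
-/

set_option autoImplicit false
set_option linter.unusedSectionVars false
set_option linter.style.haveILetI false
set_option linter.deprecated false

namespace CfsgLib.AbFix

open Subgroup Pointwise CfsgLib.SZ CfsgLib.SFT
open scoped commutatorElement IsMulCommutative

universe u

variable {G : Type u} [Group G] [Finite G]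

/-- An invariant `{p, r}`-subgroup of `H`. -/
def Pi2 (p r : ℕ) (A H U : Subgroup G) : Prop :=
  U ≤ H ∧ A ≤ normalizer (U : Set G) ∧ IsPiG {p, r} U

theorem isPiG_of_pgroup {σ : Set ℕ} {r : ℕ} [Fact r.Prime] (hr : r ∈ σ) {U : Subgroup G}
    (hU : IsPGroup r U) : IsPiG σ U := by
  intro s hs hd
  obtain ⟨k, hk⟩ := IsPGroup.iff_card.1 hU
  rw [hk] at hd
  rwa [(Nat.prime_dvd_prime_iff_eq hs Fact.out).1 (hs.dvd_of_dvd_pow hd)]

theorem isPiG_sup {σ : Set ℕ} {U V : Subgroup G} (hn : U ≤ normalizer (V : Set G))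
    (hU : IsPiG σ U) (hV : IsPiG σ V) : IsPiG σ (U ⊔ V : Subgroup G) := by
  intro s hs hd
  rcases hs.dvd_mul.1 (hd.trans (CfsgLib.Solvable.card_sup_dvd hn)) with h | h
  exacts [hU s hs h, hV s hs h]

/-- A normalized product of two subgroups commutes as a product of sets. -/
theorem perm_of_le_normalizer {U V : Subgroup G} (hn : U ≤ normalizer (V : Set G)) :
    (U : Set G) * V = (V : Set G) * U := by
  rw [← coe_mul_of_left_le_normalizer_right _ _ hn, sup_comm,
    coe_mul_of_right_le_normalizer_left _ _ hn]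

theorem inf_sup_le {U W M : Subgroup G} (hUW : U ≤ normalizer (W : Set G)) (hWM : W ≤ M) :
    (U ⊔ W) ⊓ M ≤ (U ⊓ M) ⊔ W := by
  intro x hx
  have hx' : x ∈ ((U : Set G) * (W : Set G)) := by
    rw [← coe_mul_of_left_le_normalizer_right _ _ hUW]; exact hx.1
  obtain ⟨u, hu, w, hw, rfl⟩ := hx'
  refine mul_mem (mem_sup_left ⟨hu, ?_⟩) (mem_sup_right hw)
  have := M.mul_mem hx.2 (M.inv_mem (hWM hw))
  simpa using this

/-- A subgroup of a `p`-group equal to its normalizer there is the whole group. -/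
theorem eq_of_normalizer_le {p : ℕ} [Fact p.Prime] {W P : Subgroup G} (hWP : W ≤ P)
    (hP : IsPGroup p P) (h : P ⊓ normalizer (W : Set G) ≤ W) : W = P := by
  haveI : Group.IsNilpotent P := hP.isNilpotent
  by_contra hne
  have hlt : W.subgroupOf P < ⊤ :=
    lt_top_iff_ne_top.2 fun hh => hne (le_antisymm hWP (subgroupOf_eq_top.1 hh))
  obtain ⟨x, hxN, hxW⟩ := SetLike.exists_of_lt (Group.normalizerCondition_of_isNilpotent _ hlt)
  refine hxW (mem_subgroupOf.2 (h ⟨x.2, ?_⟩))
  have h2 := le_normalizer_map P.subtype (mem_map_of_mem P.subtype hxN)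
  rwa [map_subgroupOf_eq_of_le hWP] at h2

namespace Crit

variable {q : ℕ} {A H : Subgroup G} (h : Crit q A H)
include h

theorem inv_syl (r : ℕ) [Fact r.Prime] : A ≤ normalizer (syl r A H : Set G) :=
  h.hyp.inv_syl h.free r le_rfl h.hyp.norm

theorem isPGroup_syl (r : ℕ) [Fact r.Prime] : IsPGroup r (syl r A H) :=
  h.hyp.isPGroup_syl h.free r le_rfl h.hyp.norm

variable {p r : ℕ} [hp : Fact p.Prime] [hr : Fact r.Prime]

theorem pi2_ne {U : Subgroup G} (hU : Pi2 p r A H U) : U ≠ H := by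
  rintro rfl
  refine h.notSolv (Cfsg.Agent.S0144.result p r ((Nat.card U).factorization p)
    (if p = r then 0 else (Nat.card U).factorization r) hp.out hr.out ?_)
  refine Nat.eq_of_factorization_eq Nat.card_pos.ne' (Nat.mul_ne_zero (pow_ne_zero _ hp.out.ne_zero)
    (pow_ne_zero _ hr.out.ne_zero)) fun s => ?_
  rw [Nat.factorization_mul (pow_ne_zero _ hp.out.ne_zero) (pow_ne_zero _ hr.out.ne_zero),
    Finsupp.add_apply, hp.out.factorization_pow, hr.out.factorization_pow, Finsupp.single_apply,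
    Finsupp.single_apply]
  by_cases hps : p = s
  · subst hps
    by_cases hpr : p = r
    · subst hpr; simp
    · simp [Ne.symm hpr, hpr]
  · by_cases hrs : r = s
    · subst hrs
      simp [hps]
    · rw [if_neg hps, if_neg hrs, add_zero]
      by_cases hs : s.Prime
      · refine Nat.factorization_eq_zero_of_not_dvd fun hd => ?_
        rcases hU.2.2 s hs hd with e | e
        exacts [hps e.symm, hrs e.symm]
      · exact Nat.factorization_eq_zero_of_not_prime _ hs

/-- An invariant `{p, r}`-subgroup normalizing a local of a maximal one lies in it. -/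
theorem le_of_maximal {M : Subgroup G} (hM : Maximal (Pi2 p r A H) M) {E : Subgroup G}
    (hEH : E ≤ H) (hE1 : E ≠ ⊥) (hAE : A ≤ normalizer (E : Set G)) (hEs : Group.IsSolvable E)
    (hME : M ≤ normalizer (E : Set G)) {U : Subgroup G} (hU : Pi2 p r A H U)
    (hUE : U ≤ normalizer (E : Set G)) : U ≤ M := by
  set L := H ⊓ normalizer (E : Set G)
  have hLs := h.solvable_normalizer hEH hE1 hAE hEs
  have hAL : A ≤ normalizer (L : Set G) := le_normalizer_inf h.hyp.norm (hAE.trans le_normalizer)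
  have hcop := h.hyp.coprime_le le_rfl (inf_le_left : L ≤ H)
  obtain ⟨H₁, hH₁, hAH₁, hM₁⟩ := CfsgLib.InvariantHall.exists_invariant_ge (π := ({p, r} : Set ℕ)) _ G A L M
    rfl hAL hcop hLs (le_inf hM.1.1 hME) hM.1.2.1 hM.1.2.2
  have he : H₁ = M := le_antisymm (hM.2 ⟨hH₁.1.trans inf_le_left, hAH₁, hH₁.2.1⟩ hM₁) hM₁
  obtain ⟨H₂, hH₂, hAH₂, hU₂⟩ := CfsgLib.InvariantHall.exists_invariant_ge (π := ({p, r} : Set ℕ)) _ G A L U
    rfl hAL hcop hLs (le_inf hU.1 hUE) hU.2.1 hU.2.2
  obtain ⟨c, hc, hcH⟩ := CfsgLib.InvariantHall.invariant_conj hAL hcop hLs hH₂ hAH₂ hH₁ hAH₁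
  rw [h.free.eq_one hc.1.1 hc.2, map_one, one_smul] at hcH
  exact hU₂.trans (hcH.trans he).le

theorem solvable_maximal {M : Subgroup G} (hM : Maximal (Pi2 p r A H) M) : Group.IsSolvable M :=
  h.sub M hM.1.1 (h.pi2_ne hM.1) hM.1.2.1

theorem le_centralizer_oc_others {M U : Subgroup G} (hM : Maximal (Pi2 p r A H) M)
    (hc : U ≤ centralizer (oc p M : Set G)) (t : ℕ) (ht : t.Prime) (htr : t ≠ r) :
    U ≤ centralizer (oc t M : Set G) := by
  haveI := Fact.mk ht
  by_cases hb : oc t M = ⊥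
  · intro x _
    exact mem_centralizer_iff.2 fun y hy => by rw [hb] at hy; simp [mem_bot.1 hy]
  · rcases hM.1.2.2 t ht (oc_ne_bot_imp_dvd hb) with rfl | e
    · exact hc
    · exact absurd e htr

/-- An invariant `r`-subgroup of a maximal `{p, r}`-subgroup centralizing `O_p` lies in `O_r`. -/
theorem le_oc_of_maximal {M U : Subgroup G} (hM : Maximal (Pi2 p r A H) M) (hUM : U ≤ M)
    (hU : IsPGroup r U) (hc : U ≤ centralizer (oc p M : Set G)) : U ≤ oc r M :=
  (h.hyp.mono hM.1.1 hM.1.2.1).le_oc_others (h.free.mono hM.1.1) (h.solvable_maximal hM) hUM hU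
    fun t ht htr => h.le_centralizer_oc_others hM hc t ht htr

variable {M : Subgroup G} (hM : Maximal (Pi2 p r A H) M) (hpr : p ≠ r)
  (hW : oc r M ≠ ⊥) (hQ : oc p M ≠ ⊥)
include hM hpr hW hQ

/-- The invariant `r`-Sylow subgroup of a proper subgroup containing `O_r(M)` and a self-centralizing
part of `O_p(M)` lies in `M`. -/
theorem syl_le_maximal {Y B : Subgroup G} (hYH : Y ≤ H) (hYne : Y ≠ H)
    (hAY : A ≤ normalizer (Y : Set G)) (hWY : oc r M ≤ Y) (hBY : B ≤ Y) (hBQ : B ≤ oc p M)
    (hBc : oc p M ⊓ centralizer (B : Set G) ≤ B) : syl r A Y ≤ M := by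
  set W := oc r M
  set Q := oc p M
  have hYs := h.sub Y hYH hYne hAY
  have hYh := h.hyp.mono hYH hAY
  have hYf := h.free.mono hYH
  have hMh := hM.1
  have hWM : W ≤ M := oc_le r M
  have hAW : A ≤ normalizer (W : Set G) := le_normalizer_oc_of_le r hMh.2.1
  have hWs : Group.IsSolvable W := isSolvable_of_le hWM (h.solvable_maximal hM)
  have hin : ∀ U : Subgroup G, U ≤ H → A ≤ normalizer (U : Set G) → IsPGroup r U →
      U ≤ normalizer (W : Set G) → U ≤ M := fun U hUH hAU hUr hUW =>
    h.le_of_maximal hM (hWM.trans hMh.1) hW hAW hWs (le_normalizer_oc r M)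
      ⟨hUH, hAU, isPiG_of_pgroup (Or.inr rfl) hUr⟩ hUW
  -- `O_r(Y) ≤ W`
  set U := oc r Y
  have hUY : U ≤ Y := oc_le r Y
  have hAU : A ≤ normalizer (U : Set G) := le_normalizer_oc_of_le r hAY
  have hUr : IsPGroup r U := isPGroup_oc r Y
  have hUM : U ⊓ M ≤ W := by
    refine h.le_oc_of_maximal hM inf_le_right (hUr.to_le inf_le_left) ?_
    have hn : U ⊓ M ≤ normalizer (Q : Set G) := inf_le_right.trans (le_normalizer_oc p M)
    have hBU : B ≤ centralizer ((U ⊓ M : Subgroup G) : Set G) := by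
      intro b hb
      refine mem_centralizer_iff.2 fun u hu => commutatorElement_eq_one_iff_mul_comm.1 ?_
      refine (eq_bot_iff_forall _).1 (inf_eq_bot_of_coprime (coprime_of_pgroup_ne hpr.symm
        hUr (isPGroup_oc p M))) _ ⟨?_, ?_⟩
      · rw [commutatorElement_def, mul_assoc, mul_assoc]
        refine U.mul_mem hu.1 ?_
        rw [← mul_assoc]
        exact conj_mem (hBY.trans (le_normalizer_oc r Y)) hb (U.inv_mem hu.1)
      · rw [commutatorElement_def]
        exact Q.mul_mem (conj_mem hn hu (hBQ hb)) (Q.inv_mem (hBQ hb))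
    have h1 := CfsgLib.CoprimeAct.p_times_q_aux _ p B (U ⊓ M) Q rfl
      ((isPGroup_oc p M).to_le hBQ) (pgroup_coprime_prime hpr.symm (hUr.to_le inf_le_left))
      (isPGroup_oc p M) hBU (hBQ.trans le_normalizer) hn (hBc.trans hBU)
    rw [commutator_eq_bot_iff_le_centralizer] at h1
    exact le_centralizer_symm h1
  have hUW : U ≤ W := by
    have hWU : W ≤ normalizer (U : Set G) := hWY.trans (le_normalizer_oc r Y)
    set X := W ⊔ U
    have hXr : IsPGroup r X := (isPGroup_oc r M).to_sup_of_normal_right' hUr hWU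
    have hXe : W = X := by
      refine eq_of_normalizer_le le_sup_left hXr ?_
      have hXM : X ⊓ normalizer (W : Set G) ≤ M := hin _
        (inf_le_left.trans (sup_le (hWM.trans hMh.1) (hUY.trans hYH)))
        (le_normalizer_inf (le_normalizer_sup hAW hAU) (hAW.trans le_normalizer))
        (hXr.to_le inf_le_left) inf_le_right
      intro x hx
      have hx' : x ∈ ((W : Set G) * (U : Set G)) := by
        rw [← coe_mul_of_left_le_normalizer_right _ _ hWU]; exact hx.1
      obtain ⟨w, hw, u, hu, rfl⟩ := hx'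
      refine W.mul_mem hw (hUM ⟨hu, ?_⟩)
      have := M.mul_mem (M.inv_mem (hWM hw)) (hXM hx)
      simpa using this
    exact le_sup_right.trans hXe.ge
  -- the Sylow subgroup of `Y` normalizes `W`
  have hRr := h.hyp.isPGroup_syl h.free r hYH hAY
  have hWR : W ≤ syl r A Y := le_syl hWY (isPGroup_oc r M) hAW
  refine hin _ ((syl_le _ _ _).trans hYH) (h.hyp.inv_syl h.free r hYH hAY) hRr
    (le_normalizer_of_conj fun n hn x hx => ?_)
  obtain ⟨f, hf, g, hg, he⟩ := hYh.conj_split hYf hYs r (syl_le _ _ _ hn) (hWY hx)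
  have hg1 : g = 1 := by
    refine (eq_bot_iff_forall _).1 (inf_eq_bot_of_coprime (coprime_of_pgroup hRr
      (coprime_card_oc' r Y))) g ⟨?_, cores_le_oc' r Y hg⟩
    have hfR : f ∈ syl r A Y := le_syl hUY hUr hAU hf
    have hxR := hWR hx
    rw [show g = f⁻¹ * (n * x * n⁻¹) * x⁻¹ by rw [he]; group]
    exact Subgroup.mul_mem _ (Subgroup.mul_mem _ (Subgroup.inv_mem _ hfR)
      (Subgroup.mul_mem _ (Subgroup.mul_mem _ hn hxR) (Subgroup.inv_mem _ hn))) (Subgroup.inv_mem _ hxR)
  rw [he, hg1, mul_one]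
  exact W.mul_mem (hUW hf) hx

theorem comp_le {c : G} (hc : c ∈ A) (hc1 : c ≠ 1) (hQc : oc p M ⊓ centralizer {c} ≠ ⊥) :
    syl r A H ⊓ centralizer {c} ≤ M := by
  set Q := oc p M
  set Qc := Q ⊓ centralizer {c}
  have hQH : Q ≤ H := (oc_le p M).trans hM.1.1
  have hAQ : A ≤ normalizer (Q : Set G) := le_normalizer_oc_of_le p hM.1.2.1
  have hAQc := h.hyp.inv_cx hAQ hc
  set Y := H ⊓ centralizer (Qc : Set G)
  have hQcab : Qc ≤ centralizer (Qc : Set G) := fun x hx => mem_centralizer_iff.2 fun y hy =>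
    h.hyp.comm c hc hc1 y ⟨hQH hy.1, hy.2⟩ x ⟨hQH hx.1, hx.2⟩
  have hYne : Y ≠ H := by
    intro e
    have hle : H ≤ centralizer (Qc : Set G) := inf_eq_left.1 e
    refine hQc ((h.simple Qc (inf_le_left.trans hQH) hAQc
      (hle.trans (centralizer_le_normalizer _))).resolve_right fun e' => h.notSolv ?_)
    rw [← e']
    haveI : IsMulCommutative Qc :=
      ⟨⟨fun a b => Subtype.ext (mem_centralizer_iff.1 (hQcab b.2) a a.2)⟩⟩
    infer_instance
  have hAY : A ≤ normalizer (Y : Set G) := le_normalizer_inf h.hyp.norm (inv_centralizer hAQc)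
  set B := Q ⊓ centralizer (Qc : Set G)
  refine le_trans ?_ (h.syl_le_maximal hM hpr hW hQ (B := B) inf_le_left hYne hAY ?_ ?_ inf_le_left
    (le_inf inf_le_left (inf_le_right.trans
      (centralizer_le (SetLike.coe_subset_coe.2 (le_inf inf_le_left hQcab))))))
  · refine le_syl (le_inf (inf_le_left.trans (syl_le _ _ _)) fun x hx => ?_)
      ((h.isPGroup_syl r).to_le inf_le_left) (h.hyp.inv_cx (h.inv_syl r) hc)
    exact mem_centralizer_iff.2 fun y hy =>
      h.hyp.comm c hc hc1 y ⟨hQH hy.1, hy.2⟩ x ⟨syl_le _ _ _ hx.1, hx.2⟩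
  · exact le_inf ((oc_le r M).trans hM.1.1) ((le_centralizer_oc hpr.symm).trans
      (centralizer_le (SetLike.coe_subset_coe.2 inf_le_left)))
  · exact inf_le_inf_right _ hQH

/-- Both invariant Sylow subgroups lie in `M`. -/
theorem sylow_le : syl r A H ≤ M := by
  set W := oc r M
  set Q := oc p M
  set R := syl r A H
  have hRH : R ≤ H := syl_le _ _ _
  have hAR := h.inv_syl r
  have hRr := h.isPGroup_syl r
  have hWM : W ≤ M := oc_le r M
  have hQH : Q ≤ H := (oc_le p M).trans hM.1.1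
  have hAQ : A ≤ normalizer (Q : Set G) := le_normalizer_oc_of_le p hM.1.2.1
  have hAW : A ≤ normalizer (W : Set G) := le_normalizer_oc_of_le r hM.1.2.1
  have hWs : Group.IsSolvable W := isSolvable_of_le hWM (h.solvable_maximal hM)
  set R₁ := R ⊓ M
  have hAR₁ : A ≤ normalizer (R₁ : Set G) := le_normalizer_inf hAR hM.1.2.1
  have hWR₁ : W ≤ R₁ := le_inf (le_syl (hWM.trans hM.1.1) (isPGroup_oc r M) hAW) hWM
  have hR₁W : R₁ ≤ normalizer (W : Set G) := inf_le_right.trans (le_normalizer_oc r M)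
  set R₂ := R ⊓ normalizer (R₁ : Set G)
  have hAR₂ : A ≤ normalizer (R₂ : Set G) := le_normalizer_inf hAR (hAR₁.trans le_normalizer)
  suffices hR₂ : R₂ ≤ M by
    have e : R₁ = R := eq_of_normalizer_le inf_le_left hRr fun x hx => ⟨hx.1, hR₂ hx⟩
    exact e.ge.trans inf_le_right
  refine h.hyp.gen (inf_le_left.trans hRH) hAR₂ fun e he he1 => ?_
  by_cases hQe : Q ⊓ centralizer {e} = ⊥
  swap
  · exact le_trans (inf_le_inf_right _ inf_le_left) (h.comp_le hM hpr hW hQ he he1 hQe)
  -- the other components of `R₁` lie in `W`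
  have hdec : R₁ ≤ W ⊔ (R₁ ⊓ centralizer {e}) := by
    refine h.hyp.gen (inf_le_left.trans hRH) hAR₁ fun d hd hd1 => ?_
    by_cases hde : Ind A d e
    · refine le_trans ?_ le_sup_left
      refine h.le_oc_of_maximal hM (inf_le_left.trans inf_le_right)
        (hRr.to_le (inf_le_left.trans inf_le_left)) ?_
      exact h.hyp.key_pgroup h.free hde (inf_le_left.trans (inf_le_left.trans hRH)) inf_le_right
        (h.hyp.inv_cx hAR₁ hd) hQH (isPGroup_oc p M) (hAQ he)
        (inf_le_left.trans (inf_le_right.trans (le_normalizer_oc p M)))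
        (hQe.le.trans bot_le)
        (pgroup_coprime_prime hpr.symm (hRr.to_le (inf_le_left.trans inf_le_left)))
    · rw [h.hyp.centralizer_eq_of_dep hd hd1 he he1 hde]
      exact le_sup_right
  set D := ⁅R₁, zpowers e⁆
  have hen : zpowers e ≤ normalizer (R₁ : Set G) := zpowers_le.2 (hAR₁ he)
  have hDW : D ≤ W := by
    rw [commutator_le]
    intro x hx y hy
    have hx' : x ∈ ((W : Set G) * ((R₁ ⊓ centralizer {e} : Subgroup G) : Set G)) := by
      rw [← coe_mul_of_right_le_normalizer_left _ _ (inf_le_left.trans hR₁W)]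
      exact hdec hx
    obtain ⟨w, hw, z, hz, rfl⟩ := hx'
    have hzy : z * y = y * z :=
      (mem_centralizer_iff.1 (centralizer_singleton_le_zpowers e hz.2) y hy).symm
    have e1 : ⁅w * z, y⁆ = w * (y * w⁻¹ * y⁻¹) := by
      calc ⁅w * z, y⁆ = w * (z * y * z⁻¹) * w⁻¹ * y⁻¹ := by rw [commutatorElement_def]; group
        _ = _ := by rw [hzy, mul_inv_cancel_right]; group
    rw [e1]
    exact W.mul_mem hw (conj_mem ((zpowers_le.2 he).trans hAW) hy (W.inv_mem hw))
  by_cases hD : D = ⊥
  · -- `e` centralizes `R₁`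
    refine le_trans (inf_le_inf_right _ inf_le_left) (h.le_of_maximal hM (hWM.trans hM.1.1) hW hAW
      hWs (le_normalizer_oc r M) ⟨inf_le_left.trans hRH, h.hyp.inv_cx hAR he,
        isPiG_of_pgroup (Or.inr rfl) (hRr.to_le inf_le_left)⟩ ?_)
    refine le_trans (fun x hx => mem_centralizer_iff.2 fun y hy => ?_)
      (centralizer_le_normalizer (W : Set G))
    have hye : y ∈ centralizer ({e} : Set G) := mem_centralizer_singleton_iff.2
      (mem_centralizer_iff.1 (commutator_eq_bot_iff_le_centralizer.1 hD (hWR₁ hy)) e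
        (mem_zpowers e)).symm
    exact h.hyp.comm e he he1 y ⟨hM.1.1 (hWM hy), hye⟩ x ⟨hRH hx.1, hx.2⟩
  · have hAD : A ≤ normalizer (D : Set G) := le_normalizer_commutator hAR₁ (fun a ha =>
      mem_normalizer_of_conj fun x hx => by
        obtain ⟨i, rfl⟩ := mem_zpowers_iff.1 hx
        rw [show a * e ^ i * a⁻¹ = e ^ i by
          rw [h.hyp.commA ha (zpow_mem he i), mul_inv_cancel_right]]
        exact zpow_mem (mem_zpowers e) i)
    have hDH : D ≤ H := hDW.trans (hWM.trans hM.1.1)
    have hDs : Group.IsSolvable D := isSolvable_of_le hDW hWs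
    set Y := H ⊓ normalizer (D : Set G)
    have hYne : Y ≠ H := h.normalizer_ne hDH hD hAD hDs
    have hAY : A ≤ normalizer (Y : Set G) := le_normalizer_inf h.hyp.norm (hAD.trans le_normalizer)
    have hWY : W ≤ Y := le_inf (hWM.trans hM.1.1) (hWR₁.trans (normalizer_commutator_ge_left _ _))
    have hQY : Q ≤ Y := le_inf hQH ((le_centralizer_oc hpr).trans
      ((centralizer_le (SetLike.coe_subset_coe.2 hDW)).trans (centralizer_le_normalizer _)))
    refine le_trans ?_ (h.syl_le_maximal hM hpr hW hQ inf_le_left hYne hAY hWY hQY le_rfl inf_le_left)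
    refine le_syl (le_inf (inf_le_left.trans (inf_le_left.trans hRH)) ?_)
      (hRr.to_le (inf_le_left.trans inf_le_left)) (h.hyp.inv_cx hAR₂ he)
    refine le_normalizer_commutator (inf_le_left.trans inf_le_right) (fun g hg =>
      mem_normalizer_of_conj fun x hx => ?_)
    have : g * x = x * g := (mem_centralizer_iff.1 (centralizer_singleton_le_zpowers e hg.2) x hx).symm
    rw [this, mul_inv_cancel_right]
    exact hx

end Crit

end CfsgLib.AbFix
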