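import Cfsg.Agent.AbFix.Derived
import Cfsg.Agent.AbFix.KeyPGroup
import Cfsg.Agent.ZJ.NormalPComplement

/-!
A minimal nonsolvable group with a free action of type `(q, q)` with abelian centralizers: the
components of the invariant Sylow subgroups.
-/

set_option autoImplicit false
set_option linter.unusedSectionVars false
set_option linter.style.haveILetI false
set_option linter.deprecated false

namespace CfsgLib.AbFix

open Subgroup Pointwise CfsgLib.SZ CfsgLib.SFT
open scoped commutatorElement

universe u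

variable {G : Type u} [Group G] [Finite G]

/-- A minimal counterexample. -/
structure Crit (q : ℕ) (A H : Subgroup G) : Prop where
  hyp : Hyp q A H
  free : Free A H
  notSolv : ¬ Group.IsSolvable H
  sub : ∀ U ≤ H, U ≠ H → A ≤ normalizer (U : Set G) → Group.IsSolvable U
  simple : ∀ U ≤ H, A ≤ normalizer (U : Set G) → H ≤ normalizer (U : Set G) → U = ⊥ ∨ U = H

/-- A normal subgroup of order prime to `p` containing all full prime-to-`p` parts gives a normal
`p`-complement. -/
theorem hasNormalPComplement_of_normal {M : Type*} [Group M] [Finite M] {p : ℕ} [Fact p.Prime]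
    (K : Subgroup M) [K.Normal] (hK : (Nat.card K).Coprime p)
    (hfull : ∀ s : ℕ, s.Prime → s ≠ p → s ^ (Nat.card M).factorization s ∣ Nat.card K) :
    Cfsg.HasNormalPComplement p M := by
  obtain ⟨P⟩ : Nonempty (Sylow p M) := inferInstance
  refine ⟨P, K, inferInstance, isComplement'_of_coprime ?_ ?_⟩
  · rw [P.card_eq_multiplicity]
    refine Nat.eq_of_factorization_eq (Nat.mul_ne_zero Nat.card_pos.ne'
      (pow_ne_zero _ (Fact.out : p.Prime).ne_zero)) Nat.card_pos.ne' fun s => ?_
    rw [Nat.factorization_mul Nat.card_pos.ne' (pow_ne_zero _ (Fact.out : p.Prime).ne_zero),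
      Finsupp.add_apply, (Fact.out : p.Prime).factorization_pow, Finsupp.single_apply]
    by_cases hsp : p = s
    · subst hsp
      rw [if_pos rfl, Nat.factorization_eq_zero_of_not_dvd
        ((Fact.out : p.Prime).coprime_iff_not_dvd.1 hK.symm), zero_add]
    · rw [if_neg hsp, add_zero]
      by_cases hs : s.Prime
      · refine le_antisymm ?_ ((hs.pow_dvd_iff_le_factorization Nat.card_pos.ne').1
          (hfull s hs (Ne.symm hsp)))
        exact (Nat.factorization_le_iff_dvd Nat.card_pos.ne' Nat.card_pos.ne').2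
          (card_subgroup_dvd_card K) s
      · rw [Nat.factorization_eq_zero_of_not_prime _ hs, Nat.factorization_eq_zero_of_not_prime _ hs]
  · rw [P.card_eq_multiplicity]
    exact hK.pow_right _

namespace Crit

variable {q : ℕ} {A H : Subgroup G} (h : Crit q A H)
include h

theorem ne_bot : H ≠ ⊥ := fun e => h.notSolv (by subst e; infer_instance)

theorem not_pgroup (r : ℕ) [Fact r.Prime] : ¬ IsPGroup r H := fun hr => h.notSolv (by
  haveI := hr.isNilpotent
  infer_instance)

theorem normalizer_ne {U : Subgroup G} (hU : U ≤ H) (hU1 : U ≠ ⊥)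
    (hAU : A ≤ normalizer (U : Set G)) (hUs : Group.IsSolvable U) :
    H ⊓ normalizer (U : Set G) ≠ H := fun e =>
  h.notSolv ((h.simple U hU hAU (inf_eq_left.1 e)).resolve_left hU1 ▸ hUs)

theorem solvable_normalizer {U : Subgroup G} (hU : U ≤ H) (hU1 : U ≠ ⊥)
    (hAU : A ≤ normalizer (U : Set G)) (hUs : Group.IsSolvable U) :
    Group.IsSolvable ↥(H ⊓ normalizer (U : Set G)) :=
  h.sub _ inf_le_left (h.normalizer_ne hU hU1 hAU hUs)
    (le_normalizer_inf h.hyp.norm (hAU.trans le_normalizer))

theorem no_complement (p : ℕ) [Fact p.Prime] (hd : p ∣ Nat.card H) :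
    ¬ Cfsg.HasNormalPComplement p H := by
  rintro ⟨P, N, hN, hNP⟩
  have hNc : (Nat.card N).Coprime p := by
    refine ((Fact.out : p.Prime).coprime_iff_not_dvd.2 fun hdN => ?_).symm
    have h2 := P.not_dvd_index
    rw [← hNP.index_eq_card] at hdN
    exact h2 hdN
  have hmap : N.map H.subtype ≤ oc' p H := le_oc' (map_subtype_le _)
    (by rwa [card_map_of_injective H.subtype_injective])
    ((normal_subgroupOf_iff_le_normalizer (map_subtype_le _)).1 (by
      rw [subgroupOf, comap_map_eq_self_of_injective H.subtype_injective]; exact hN))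
  rcases h.simple (oc' p H) (oc'_le p H) (le_normalizer_oc'_of_le p h.hyp.norm)
    (le_normalizer_oc' p H) with he | he
  · rw [he, le_bot_iff, Subgroup.map_eq_bot_iff_of_injective _ H.subtype_injective] at hmap
    subst hmap
    refine h.not_pgroup p (IsPGroup.iff_card.2 ⟨(Nat.card H).factorization p, ?_⟩)
    rw [← P.card_eq_multiplicity]
    have := hNP.card_mul
    rwa [Subgroup.card_bot, one_mul, eq_comm] at this
  · have := coprime_card_oc' p H
    rw [he] at this
    exact (Fact.out : p.Prime).coprime_iff_not_dvd.1 this.symm hd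

/-- No invariant Sylow subgroup lies in the centralizer of an element of `A`. -/
theorem not_le_centralizer (r : ℕ) [Fact r.Prime] (hr : r ∣ Nat.card H) {a : G} (ha : a ∈ A)
    (ha1 : a ≠ 1) : ¬ syl r A H ≤ centralizer {a} := by
  intro hle
  obtain ⟨R, hR, hAR⟩ := h.hyp.exists_syl h.free r le_rfl h.hyp.norm
  set S := syl r A H with hS
  have hSH : S ≤ H := syl_le _ _ _
  have hcent : H ⊓ normalizer (S : Set G) ≤ centralizer (S : Set G) := by
    refine h.hyp.gen inf_le_left (le_normalizer_inf h.hyp.norm (hAR.trans le_normalizer))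
      fun c hc hc1 k hk => mem_centralizer_iff.2 fun z hz => ?_
    by_cases hac : Ind A a c
    · have hza : a * z = z * a := (mem_centralizer_singleton_iff.1 (hle hz)).symm
      have hn : ∀ g : G, g ∈ normalizer ((⊥ : Subgroup G) : Set G) := fun g => by
        rw [normalizer_eq_top]; trivial
      have h1 := h.hyp.commute_mod h.free hac (C := (⊥ : Subgroup G))
        (K := H ⊓ normalizer (S : Set G) ⊓ centralizer {c}) (z := z)
        (inf_le_left.trans inf_le_left) inf_le_right
        (h.hyp.inv_cx (le_normalizer_inf h.hyp.norm (hAR.trans le_normalizer)) hc) (hn a)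
        (fun g _ => hn g) (hn z)
        (by rw [mem_bot, hza, mul_inv_cancel_right, mul_inv_cancel]) (fun g hg => by
          have : a * (g * z * g⁻¹) = g * z * g⁻¹ * a := (mem_centralizer_singleton_iff.1
            (hle ((mem_normalizer_iff.1 hg.1.2 z).1 hz))).symm
          rw [mem_bot, this, mul_inv_cancel_right, mul_inv_cancel]) k hk
      rw [mem_bot, mul_inv_eq_one, mul_inv_eq_iff_eq_mul] at h1
      exact h1.symm
    · exact h.hyp.comm a ha ha1 z ⟨hSH hz, hle hz⟩ k
        ⟨hk.1.1, h.hyp.centralizer_eq_of_dep ha ha1 hc hc1 hac ▸ hk.2⟩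
  have hP : normalizer ((R : Subgroup H) : Set H) ≤ centralizer ((R : Subgroup H) : Set H) := by
    intro x hx
    refine mem_centralizer_iff.2 fun y hy => Subtype.ext ?_
    have hxn : (x : G) ∈ normalizer (S : Set G) := by
      rw [hR]
      exact le_normalizer_map H.subtype ⟨x, hx, rfl⟩
    exact mem_centralizer_iff.1 (hcent ⟨x.2, hxn⟩) y (by rw [hR]; exact ⟨y, hy, rfl⟩)
  exact h.no_complement r hr
    ⟨R, (MonoidHom.transferSylow R hP).ker, inferInstance,
      MonoidHom.ker_transferSylow_isComplement' R hP⟩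

/-- For odd `p` all but one component of the invariant Sylow `p`-subgroup are nontrivial. -/
theorem exists_component (p : ℕ) [Fact p.Prime] (hp2 : p ≠ 2) (hpd : p ∣ Nat.card H) :
    ∃ e ∈ A, e ≠ 1 ∧ ∀ c, Ind A e c → syl p A H ⊓ centralizer {c} ≠ ⊥ := by
  by_contra hcon
  push Not at hcon
  haveI := Fact.mk h.hyp.prime
  obtain ⟨R, hR, hAR⟩ := h.hyp.exists_syl h.free p le_rfl h.hyp.norm
  have hK := CfsgLib.ZJ.zkind_centerThompsonA.{u} (p := p) hp2
  set Z := Cfsg.centerThompsonAOf (R : Subgroup H) with hZ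
  set M := normalizer (Z : Set H) with hM
  have hR1 : (R : Subgroup H) ≠ ⊥ := by
    intro e
    refine h.hyp.syl_ne_bot h.free le_rfl h.hyp.norm hpd ?_
    rw [hR, e, Subgroup.map_bot]
  have hZ1 : Z ≠ ⊥ := hK.ne_bot _ _ R.2 hR1
  set Z' := Z.map H.subtype with hZ'
  have hZ'H : Z' ≤ H := map_subtype_le _
  have hZ'1 : Z' ≠ ⊥ := fun e =>
    hZ1 ((Subgroup.map_eq_bot_iff_of_injective _ H.subtype_injective).1 e)
  have hAZ : A ≤ normalizer (Z' : Set G) := by
    refine le_normalizer_of_conj fun a ha => ?_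
    let φ : H →* H := MonoidHom.mk' (fun x => ⟨a * x * a⁻¹, conj_mem h.hyp.norm ha x.2⟩)
      fun x y => Subtype.ext (by simp [mul_assoc])
    have hφ : Function.Injective φ := fun x y e => Subtype.ext
      (mul_left_cancel (mul_right_cancel (congrArg Subtype.val e)))
    have hRφ : (R : Subgroup H).map φ = R := by
      refine CfsgLib.Solvable.eq_of_le_of_card_le ?_ (card_map_of_injective hφ).ge
      rintro _ ⟨x, hx, rfl⟩
      have h1 : a * (x : G) * a⁻¹ ∈ syl p A H := conj_mem hAR ha (by rw [hR]; exact ⟨x, hx, rfl⟩)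
      rw [hR] at h1
      obtain ⟨y, hy, hye⟩ := h1
      rwa [show φ x = y from Subtype.ext hye.symm]
    have he : Z.map φ = Z := by rw [hZ, ← hK.map H H φ R hφ, hRφ]
    rintro _ ⟨z, hz, rfl⟩
    exact ⟨φ z, he.le ⟨z, hz, rfl⟩, rfl⟩
  haveI hZs : Group.IsSolvable Z' := by
    haveI := ((R.2.to_le (hK.le _ _)).map H.subtype : IsPGroup p Z').isNilpotent
    infer_instance
  set N := H ⊓ normalizer (Z' : Set G) with hN
  have hAN : A ≤ normalizer (N : Set G) := le_normalizer_inf h.hyp.norm (hAZ.trans le_normalizer)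
  have hNs : Group.IsSolvable N := h.solvable_normalizer hZ'H hZ'1 hAZ hZs
  have hNH : N ≤ H := inf_le_left
  have hNh := h.hyp.mono hNH hAN
  have hNf := h.free.mono hNH
  set O := oc p N
  have hAO : A ≤ normalizer (O : Set G) := le_normalizer_oc_of_le p hAN
  have hOP : O ≤ syl p A H := le_syl ((oc_le p N).trans hNH) (isPGroup_oc p N) hAO
  have hfull : ∀ s : ℕ, s.Prime → s ≠ p → syl s A N ≤ oc' p N := by
    intro s hs hsp
    haveI := Fact.mk hs
    have hAS := h.hyp.inv_syl h.free s hNH hAN
    have hSs := h.hyp.isPGroup_syl h.free s hNH hAN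
    refine hNh.le_oc'_of_centralizes hNf hNs (syl_le _ _ _)
      (pgroup_coprime_prime hsp hSs) ?_
    refine h.hyp.gen ((syl_le _ _ _).trans hNH) hAS fun e he he1 => ?_
    obtain ⟨c, hec, hc⟩ := hcon e he he1
    refine h.hyp.key_pgroup h.free hec (inf_le_left.trans ((syl_le _ _ _).trans hNH)) inf_le_right
      (h.hyp.inv_cx hAS he) ((oc_le p N).trans hNH) (isPGroup_oc p N) (hAO hec.2.2.1)
      (inf_le_left.trans ((syl_le _ _ _).trans (le_normalizer_oc p N))) ?_
      (pgroup_coprime_prime hsp (hSs.to_le inf_le_left))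
    exact ((inf_le_inf_right _ hOP).trans hc.le).trans bot_le
  -- transfer to the normalizer inside `H`
  have hMN : M.map H.subtype = N := by
    refine le_antisymm (le_inf (map_subtype_le _) (le_normalizer_map H.subtype)) ?_
    rintro x ⟨hx, hxn⟩
    refine ⟨⟨x, hx⟩, mem_normalizer_iff.2 fun y => ?_, rfl⟩
    have h1 := mem_normalizer_iff.1 hxn (y : G)
    simp [hZ', Subgroup.mem_map] at h1
    exact h1.trans ⟨fun ⟨_, hh⟩ => hh, fun hh => ⟨H.mul_mem (H.mul_mem hx y.2) (H.inv_mem hx), hh⟩⟩
  set ψ := (M.equivMapOfInjective H.subtype H.subtype_injective).trans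
    (MulEquiv.subgroupCongr hMN)
  have hNc : Cfsg.HasNormalPComplement p N := by
    haveI : ((oc' p N).subgroupOf N).Normal :=
      normal_subgroupOf_of_le_normalizer (le_normalizer_oc' p N)
    refine hasNormalPComplement_of_normal ((oc' p N).subgroupOf N) ?_ ?_
    · rw [Nat.card_congr (subgroupOfEquivOfLe (oc'_le p N)).toEquiv]
      exact coprime_card_oc' p N
    · intro s hs hsp
      haveI := Fact.mk hs
      rw [Nat.card_congr (subgroupOfEquivOfLe (oc'_le p N)).toEquiv,
        ← h.hyp.card_syl h.free s hNH hAN]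
      exact card_dvd_of_le (hfull s hs hsp)
  have hMc : Cfsg.HasNormalPComplement p M :=
    CfsgLib.ZJ.hnpc_of_surjective ψ.symm.toMonoidHom ψ.symm.surjective hNc
  exact h.no_complement p hpd (hK.hasNormalPComplement hp2 H R hMc)

end Crit

end CfsgLib.AbFix
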